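import Cfsg.Agent.Lib.ThreeSizes.Hyp
import Cfsg.Agent.Lib.Solvable.Basic
import Cfsg.Agent.Lib.CharApp.Burnside

/-!
# Three class sizes (Itô): tools

* computations modulo the centre
* `card_eq_prime_mul`: a fixed-point-free elementary quotient has prime order
* `ncard_cover_le`: bound for the conjugates of a subgroup outside the centre
* solvability through `G ⧸ center G`
-/

open Subgroup
open scoped commutatorElement

namespace Cfsg.Agent.ItoSizes

open ThreeSizes

set_option linter.unusedSectionVars false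

variable {G : Type*} [Group G] [Finite G]

local notation "cent" x:max => Subgroup.centralizer ({x} : Set _)

/-- image in `G ⧸ center G` -/
abbrev bar (H : Subgroup G) : Subgroup (G ⧸ center G) := H.map (QuotientGroup.mk' (center G))

theorem mk_eq_one {x : G} : (x : G ⧸ center G) = 1 ↔ x ∈ center G := QuotientGroup.eq_one_iff x

theorem comm_mem_iff {a b : G} :
    ⁅a, b⁆ ∈ center G ↔ Commute (a : G ⧸ center G) (b : G ⧸ center G) := by
  rw [← mk_eq_one]
  show QuotientGroup.mk' (center G) ⁅a, b⁆ = 1 ↔ _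
  rw [map_commutatorElement, commutatorElement_eq_one_iff_mul_comm]
  rfl

theorem comm_mem_symm {a b : G} (h : ⁅a, b⁆ ∈ center G) : ⁅b, a⁆ ∈ center G :=
  comm_mem_iff.2 (comm_mem_iff.1 h).symm

theorem comm_mem_of_commute {a b : G} (h : Commute a b) : ⁅a, b⁆ ∈ center G := by
  rw [commutatorElement_eq_one_iff_mul_comm.2 h.eq]; exact one_mem _

theorem conj_mem_center {c g : G} : c * g * c⁻¹ ∈ center G ↔ g ∈ center G :=
  SylowTwoSizes.conj_mem_center

theorem conj_eq_comm_mul (g x : G) : g * x * g⁻¹ = ⁅g, x⁆ * x := by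
  rw [commutatorElement_def, inv_mul_cancel_right]

theorem comm_pow_right {g v : G} (h : ⁅g, v⁆ ∈ center G) (k : ℕ) : ⁅g, v ^ k⁆ = ⁅g, v⁆ ^ k := by
  have h1 := conj_eq_comm_mul g (v ^ k)
  rw [← conj_pow, conj_eq_comm_mul g v,
    (show Commute ⁅g, v⁆ v from (mem_center_iff.1 h v).symm).mul_pow] at h1
  exact (mul_right_cancel h1).symm

theorem comm_pow_left {g v : G} (h : ⁅g, v⁆ ∈ center G) (k : ℕ) : ⁅g ^ k, v⁆ = ⁅g, v⁆ ^ k := by
  rw [← commutatorElement_inv v, comm_pow_right (comm_mem_symm h), ← inv_pow, commutatorElement_inv]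

theorem pow_commute {g v : G} {s : ℕ} (h : ⁅g, v⁆ ∈ center G) (hv : v ^ s ∈ center G) :
    Commute (g ^ s) v := by
  have h1 : ⁅g, v⁆ ^ s = 1 := by
    rw [← comm_pow_right h, commutatorElement_eq_one_iff_mul_comm]
    exact mem_center_iff.1 hv g
  exact commutatorElement_eq_one_iff_mul_comm.1 (by rw [comm_pow_left h, h1])

theorem card_bar_mul (H : Subgroup G) :
    Nat.card (bar H) * Nat.card ↥(H ⊓ center G) = Nat.card H := by
  rw [Solvable.card_eq_card_map_mul (QuotientGroup.mk' (center G)) H, QuotientGroup.ker_mk']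

theorem IsElt.inv {q : ℕ} {x : G} (h : IsElt q x) : IsElt q x⁻¹ := by
  obtain ⟨k, hk⟩ := h; exact ⟨k, by rw [orderOf_inv, hk]⟩

theorem not_dvd_conj {q : ℕ} {g x : G} (h : ¬ q ∣ orderOf x) : ¬ q ∣ orderOf (g * x * g⁻¹) := by
  rwa [show g * x * g⁻¹ = MulAut.conj g x from rfl, MulEquiv.orderOf_eq]

theorem not_dvd_of_zpowers {q : ℕ} {g x : G} (hx : x ∈ zpowers g) (h : ¬ q ∣ orderOf g) :
    ¬ q ∣ orderOf x :=
  fun hd => h (hd.trans (orderOf_dvd_of_mem_zpowers hx))

theorem isElt_of_zpowers {q : ℕ} [hq : Fact q.Prime] {g x : G} (hx : x ∈ zpowers g) (h : IsElt q g) :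
    IsElt q x :=
  isElt_of_mem (isPGroup_zpowers h) hx

theorem eq_one_of_isElt {q : ℕ} [hq : Fact q.Prime] {x : G} (h : IsElt q x) (h' : ¬ q ∣ orderOf x) :
    x = 1 := by
  obtain ⟨k, hk⟩ := h
  rcases k with _ | k
  · exact orderOf_eq_one_iff.1 (by simpa using hk)
  · exact absurd (hk ▸ dvd_pow_self q (Nat.succ_ne_zero k)) h'

theorem center_mem_sylow {q : ℕ} [Fact q.Prime] (R : Sylow q G) {x : G} (hx : IsElt q x)
    (hz : x ∈ center G) : x ∈ (R : Subgroup G) :=
  SylowTwoSizes.mem_sylow_of_normalizes R hx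
    (centralizer_le_normalizer _ (mem_centralizer_iff.2 fun g _ => mem_center_iff.1 hz g))

theorem card_inf_center_le {q : ℕ} [Fact q.Prime] {H : Subgroup G} (hH : IsPGroup q H) :
    Nat.card ↥(H ⊓ center G) ≤ cp q (center G) :=
  card_le_cp (hH.to_le inf_le_left) inf_le_right

theorem card_inf_center {q : ℕ} [Fact q.Prime] (R : Sylow q G) :
    Nat.card ↥((R : Subgroup G) ⊓ center G) = cp q (center G) :=
  card_inf_normalised R (le_normalizer_of_normal)

theorem cp_pos {q : ℕ} [hq : Fact q.Prime] (H : Subgroup G) : 0 < cp q H := pow_pos hq.out.pos _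

/-- A proper overgroup inside a `q`-group is at least `q` times larger. -/
theorem mul_card_le {q : ℕ} [hq : Fact q.Prime] {H K : Subgroup G} (hK : IsPGroup q K) (h : H < K) :
    q * Nat.card H ≤ Nat.card K := by
  obtain ⟨i, hi⟩ := IsPGroup.iff_card.1 (hK.to_le h.le)
  obtain ⟨j, hj⟩ := IsPGroup.iff_card.1 hK
  have hlt : Nat.card H < Nat.card K := by
    by_contra hge
    exact h.ne (eq_of_le_of_card_ge h.le (not_lt.1 hge))
  rw [hi, hj] at hlt ⊢
  rw [← pow_succ']
  exact Nat.pow_le_pow_right hq.out.pos ((Nat.pow_lt_pow_iff_right hq.out.one_lt).1 hlt)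

/-- A subgroup of index `q` in a `q`-group is normal and contains all `q`-th powers. -/
theorem normal_of_index {q : ℕ} [hq : Fact q.Prime] {H R : Subgroup G} (hR : IsPGroup q R) (hHR : H ≤ R)
    (hc : Nat.card R = q * Nat.card H) :
    R ≤ normalizer (H : Set G) ∧ ∀ x ∈ R, x ^ q ∈ H := by
  have hidx : (H.subgroupOf R).index = q := by
    have h1 := (H.subgroupOf R).card_mul_index
    rw [Nat.card_congr (subgroupOfEquivOfLe hHR).toEquiv, hc, mul_comm] at h1
    exact Nat.eq_of_mul_eq_mul_right Nat.card_pos h1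
  haveI hn : (H.subgroupOf R).Normal := normal_of_index_eq_minFac_card (by
    obtain ⟨k, hk⟩ := IsPGroup.iff_card.1 hR
    have hk0 : k ≠ 0 := by
      rintro rfl
      rw [pow_zero, hc] at hk
      exact hq.out.ne_one (Nat.eq_one_of_mul_eq_one_right hk)
    rw [hidx, hk, Nat.pow_minFac hk0, hq.out.minFac_eq])
  refine ⟨le_normalizer_of_normal_subgroupOf (K := R) hHR, fun x hx => ?_⟩
  have := Subgroup.pow_index_mem (H := H.subgroupOf R) ⟨x, hx⟩
  rwa [hidx] at this

/-- A join of two `q`-groups, one normalising the other. -/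
theorem card_sup_mul {D U : Subgroup G} (h : U ≤ normalizer (D : Set G)) :
    Nat.card ↥(D ⊔ U) * Nat.card ↥(D ⊓ U) = Nat.card D * Nat.card U :=
  PLocal.card_sup_mul_card_inf h

theorem rElem_central_iff {r : ℕ} [hr : Fact r.Prime] :
    (∀ w : G, IsElt r w → w ∈ center G) ↔ ¬ r ∣ Nat.card (G ⧸ center G) := by
  constructor
  · intro h hd
    obtain ⟨x, hx⟩ := exists_prime_orderOf_dvd_card' (G := G ⧸ center G) r hd
    obtain ⟨g, rfl⟩ := QuotientGroup.mk_surjective x
    obtain ⟨u, w, hg, -, -, -, hu, hw⟩ := exists_parts hr.out g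
    have hu1 : (u : G ⧸ center G) = 1 := mk_eq_one.2 (h u hu)
    rw [hg, QuotientGroup.mk_mul, hu1, one_mul] at hx
    exact hw (hx ▸ orderOf_map_dvd (QuotientGroup.mk' (center G)) w)
  · intro h w hw
    by_contra hc
    have h1 : orderOf (w : G ⧸ center G) ∣ orderOf w := orderOf_map_dvd (QuotientGroup.mk' (center G)) w
    obtain ⟨k, hk⟩ := hw
    rw [hk] at h1
    obtain ⟨i, -, hi⟩ := (Nat.dvd_prime_pow hr.out).1 h1
    rcases i with _ | i
    · exact hc (mk_eq_one.1 (orderOf_eq_one_iff.1 (by simpa using hi)))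
    · exact h ((hi ▸ dvd_pow_self r (Nat.succ_ne_zero i)).trans (orderOf_dvd_natCard _))

/-! ### The fixed-point-free quotient -/

open scoped IsMulCommutative in
/-- `relIndex_eq_prime` with `V` an abelian subgroup of the quotient by the centre. -/
theorem card_eq_prime_mul_aux {s : ℕ} [hs : Fact s.Prime] {P : Subgroup G} (hP : IsPGroup s P)
    {V : Subgroup (G ⧸ center G)} [IsMulCommutative V] {v : G} (hvs : v ^ s ∈ center G)
    (hcomm : ∀ g ∈ P, ⁅g, v⁆ ∈ center G) (hPv : ¬ P ≤ cent v)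
    (hnorm : bar P ≤ normalizer (V : Set (G ⧸ center G)))
    (hST : ∀ g ∈ P ⊓ cent v, ∀ t ∈ V, Commute (g : G ⧸ center G) t)
    (hVs : ∀ t ∈ V, ¬ s ∣ orderOf t)
    (hfpf : ∀ g ∈ P, g ∉ cent v → ∀ t ∈ V, Commute (g : G ⧸ center G) t → t = 1)
    (hV : V ≠ ⊥) :
    Nat.card P = s * Nat.card ↥(P ⊓ cent v) := by
  set S := P ⊓ cent v with hS
  let φ : P →* center G := MonoidHom.mk' (fun g => ⟨⁅(g : G), v⁆, hcomm g g.2⟩) fun a b => Subtype.ext (by
    show ⁅(a : G) * b, v⁆ = ⁅(a : G), v⁆ * ⁅(b : G), v⁆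
    rw [commutatorElement_mul_left_eq_conj_mul, mem_center_iff.1 (hcomm b b.2) (a : G),
      mul_inv_cancel_right]
    exact (mem_center_iff.1 (hcomm b b.2) _).symm)
  have hker : φ.ker = S.subgroupOf P := by
    ext g
    rw [MonoidHom.mem_ker, mem_subgroupOf, mem_inf, mem_cent, ← commutatorElement_eq_one_iff_mul_comm]
    exact ⟨fun h => ⟨g.2, congrArg Subtype.val h⟩, fun h => Subtype.ext h.2⟩
  have hpow : ∀ g : P, φ g ^ s = 1 := fun g => by
    refine Subtype.ext ?_
    show ⁅(g : G), v⁆ ^ s = 1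
    rw [← comm_pow_right (hcomm g g.2), commutatorElement_eq_one_iff_mul_comm]
    exact mem_center_iff.1 hvs g
  have hmemS : ∀ {g : G}, g ∈ P → (g ^ s ∈ S) := fun {g} hg => by
    have : (⟨g, hg⟩ : P) ^ s ∈ φ.ker := by rw [MonoidHom.mem_ker, map_pow, hpow]
    rw [hker] at this
    exact this
  have hcS : ∀ {a b : G}, a ∈ P → b ∈ P → ⁅a, b⁆ ∈ S := fun {a b} ha hb => by
    have : ⁅(⟨a, ha⟩ : P), ⟨b, hb⟩⁆ ∈ φ.ker := by
      rw [MonoidHom.mem_ker, map_commutatorElement, commutatorElement_eq_one_iff_mul_comm]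
      exact mul_comm' _ _
    rw [hker] at this
    exact this
  obtain ⟨a, ha, hav⟩ := SetLike.not_le_iff_exists.1 hPv
  -- the action of `P` on `V`
  let cj : P →* MulAut V := V.normalizerMonoidHom.comp
    (((QuotientGroup.mk' (center G)).comp P.subtype).codRestrict _
      fun g => hnorm (mem_map_of_mem _ g.2))
  have hcjval : ∀ (g : P) (t : V), ((cj g t : V) : G ⧸ center G) =
      ((g : G) : G ⧸ center G) * t * ((g : G) : G ⧸ center G)⁻¹ := fun _ _ => rfl
  have hone : ∀ {g : P}, (g : G) ∈ S → cj g = 1 := fun {g} hg => MulEquiv.ext fun t => Subtype.ext (by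
    rw [hcjval, (hST g hg t t.2).eq, mul_inv_cancel_right]; rfl)
  have hle : P ≤ S ⊔ zpowers a := by
    intro b hb
    by_contra hbn
    have hst : Commute (cj ⟨a, ha⟩) (cj ⟨b, hb⟩) := by
      have h1 : cj ⁅(⟨a, ha⟩ : P), ⟨b, hb⟩⁆ = 1 := hone (by
        show ⁅a, b⁆ ∈ S
        exact hcS ha hb)
      rwa [map_commutatorElement, commutatorElement_eq_one_iff_mul_comm] at h1
    have hW : ∀ i j : ℕ, ¬(s ∣ i ∧ s ∣ j) → ∀ t : V,
        ((cj ⟨a, ha⟩) ^ i * (cj ⟨b, hb⟩) ^ j) t = t → t ∈ (⊥ : Subgroup V) := by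
      intro i j hij t ht
      rw [← map_pow, ← map_pow, ← map_mul] at ht
      rw [mem_bot]
      refine Subtype.ext (hfpf _ ((⟨a, ha⟩ : P) ^ i * (⟨b, hb⟩ : P) ^ j).2 ?_ t t.2 ?_)
      · intro hmem
        have hSm : a ^ i * b ^ j ∈ S := ⟨P.mul_mem (P.pow_mem ha i) (P.pow_mem hb j), hmem⟩
        have hbj : b ^ j ∈ S ⊔ zpowers a := by
          have h3 := (S ⊔ zpowers a).mul_mem
            ((S ⊔ zpowers a).inv_mem (mem_sup_right (pow_mem (mem_zpowers a) i))) (mem_sup_left hSm)
          rwa [inv_mul_cancel_left] at h3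
        by_cases hj : s ∣ j
        · obtain ⟨l, rfl⟩ := hj
          have hai : a ^ i ∈ S := by
            have hb' : (b ^ (s * l))⁻¹ ∈ S := S.inv_mem (by rw [pow_mul]; exact S.pow_mem (hmemS hb) l)
            simpa using S.mul_mem hSm hb'
          have hi : ¬ s ∣ i := fun h => hij ⟨h, dvd_mul_right _ _⟩
          refine hav ?_
          exact (Coprime.mem_of_pow_mem (H := S) (n := i)
            (IsElt.coprime_order hs.out (isElt_of_mem hP ha) hi) hai).2
        · exact hbn (Coprime.mem_of_pow_mem (H := S ⊔ zpowers a) (n := j)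
            (IsElt.coprime_order hs.out (isElt_of_mem hP hb) hj) hbj)
      · have h4 := congrArg Subtype.val ht
        rw [hcjval] at h4
        exact mul_inv_eq_iff_eq_mul.1 h4
    refine hV ((Subgroup.eq_bot_iff_forall _).2 fun t ht => ?_)
    have hpw : ∀ (g : P), cj g ^ s = 1 := fun g => by
      rw [← map_pow]; exact hone (hmemS g.2)
    have h5 : (⟨t, ht⟩ : V) ^ s ∈ (⊥ : Subgroup V) :=
      Coprime.pow_mem_of_pair_aut _ _ hst hs.out (hpw _) (hpw _) _ hW _
    rw [mem_bot, Subtype.ext_iff, Subgroup.coe_pow] at h5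
    exact orderOf_eq_one_iff.1 (by
      rcases (Nat.dvd_prime hs.out).1 (orderOf_dvd_of_pow_eq_one h5) with h | h
      · exact h
      · exact absurd (dvd_of_eq h.symm) (hVs t ht))
  -- count
  haveI hSn : (S.subgroupOf P).Normal := hker ▸ inferInstance
  have haS : (⟨a, ha⟩ : P) ∉ S.subgroupOf P := fun h => hav (mem_subgroupOf.1 h).2
  have hord : orderOf ((⟨a, ha⟩ : P) : P ⧸ S.subgroupOf P) = s := by
    refine orderOf_eq_prime ?_ fun h => haS ((QuotientGroup.eq_one_iff _).1 h)
    rw [← QuotientGroup.mk_pow, QuotientGroup.eq_one_iff, mem_subgroupOf]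
    exact hmemS ha
  have hgen : (S.subgroupOf P).index = s := by
    rw [Subgroup.index, ← hord, ← Nat.card_zpowers]
    refine (Nat.card_congr ((Equiv.subtypeUnivEquiv fun x => ?_).symm)).trans rfl
    induction x using QuotientGroup.induction_on with
    | H b =>
      have h1 : (b : G) ∈ ((S.subgroupOf P) ⊔ zpowers (⟨a, ha⟩ : P)).map P.subtype := by
        rw [Subgroup.map_sup, Subgroup.map_subgroupOf_eq_of_le inf_le_left, MonoidHom.map_zpowers]
        exact hle b.2
      have h3 := mem_map_of_mem (QuotientGroup.mk' (S.subgroupOf P))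
        ((mem_map_iff_mem P.subtype_injective).1 h1)
      rwa [Subgroup.map_sup, (Subgroup.map_eq_bot_iff _).2 (QuotientGroup.ker_mk' _).ge, bot_sup_eq,
        MonoidHom.map_zpowers] at h3
  rw [← (S.subgroupOf P).card_mul_index, hgen,
    Nat.card_congr (subgroupOfEquivOfLe (inf_le_left : S ≤ P)).toEquiv, mul_comm]

/-- A non-central `s'`-subgroup `K` on which `P / C_P(v)` acts without non-central fixed points. -/
theorem card_eq_prime_mul {s : ℕ} [hs : Fact s.Prime] {P K : Subgroup G} (hP : IsPGroup s P)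
    {v : G} (hvs : v ^ s ∈ center G)
    (hcomm : ∀ g ∈ P, ⁅g, v⁆ ∈ center G) (hPv : ¬ P ≤ cent v)
    (hnorm : P ≤ normalizer (K : Set G))
    (hKs : ∀ k ∈ K, ¬ s ∣ orderOf k)
    (hST : ∀ g ∈ P ⊓ cent v, ∀ k ∈ K, Commute g k)
    (hfpf : ∀ g ∈ P, g ∉ cent v → ∀ k ∈ K, Commute g k → k ∈ center G)
    (hK : ¬ K ≤ center G) :
    Nat.card P = s * Nat.card ↥(P ⊓ cent v) := by
  -- a non-central invariant `q`-subgroup
  obtain ⟨k, hPk⟩ := IsPGroup.iff_card.1 hP
  have hcop : (Nat.card P).Coprime (Nat.card K) := by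
    rw [hPk]
    refine Nat.Coprime.pow_left _ (hs.out.coprime_iff_not_dvd.2 fun hd => ?_)
    obtain ⟨x, hx⟩ := exists_prime_orderOf_dvd_card' (G := K) s hd
    exact hKs x x.2 (by rw [Subgroup.orderOf_coe, hx])
  have hsol : Group.IsSolvable P := Solvable.isSolvable_of_isPGroup hP
  by_contra hne
  refine hK (Coprime.le_of_invariant_sylow_le hnorm hcop (Or.inl hsol) fun q Q hq hQK hQ hQn => ?_)
  by_contra hQZ
  haveI := Fact.mk hq
  let T : Subgroup G :=
    { carrier := {t | t ∈ Q ∧ ∀ y ∈ Q, ⁅t, y⁆ ∈ center G}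
      one_mem' := ⟨one_mem _, fun y _ => by rw [commutatorElement_one_left]; exact one_mem _⟩
      mul_mem' := fun {a b} ha hb => ⟨mul_mem ha.1 hb.1, fun y hy => comm_mem_iff.2 <| by
        rw [QuotientGroup.mk_mul]
        exact (comm_mem_iff.1 (ha.2 y hy)).mul_left (comm_mem_iff.1 (hb.2 y hy))⟩
      inv_mem' := fun {a} ha => ⟨inv_mem ha.1, fun y hy => comm_mem_iff.2 <| by
        rw [QuotientGroup.mk_inv]
        exact (comm_mem_iff.1 (ha.2 y hy)).inv_left⟩ }
  obtain ⟨t0, ht0, ht0z, -, ht0c⟩ := exists_z2 hQ le_rfl le_normalizer hQZ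
  have ht0T : t0 ∈ T := ⟨ht0, fun y hy => comm_mem_symm (ht0c y hy)⟩
  haveI : IsMulCommutative (bar T) := ⟨⟨fun ⟨_, x, hx, rfl⟩ ⟨_, y, hy, rfl⟩ =>
    Subtype.ext (comm_mem_iff.1 (hx.2 y hy.1))⟩⟩
  refine hne (card_eq_prime_mul_aux hP (V := bar T) hvs hcomm hPv ?_ ?_ ?_ ?_ ?_)
  · rintro _ ⟨g, hg, rfl⟩
    refine Coprime.mem_normalizer_of_forall ?_
    rintro _ ⟨t, ht, rfl⟩
    refine ⟨g * t * g⁻¹, ⟨(mem_normalizer_iff.1 (hQn hg) t).1 ht.1, fun y hy => ?_⟩, by simp⟩
    have hy' : g⁻¹ * y * g ∈ Q := by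
      have := (mem_normalizer_iff.1 (hQn (inv_mem hg)) y).1 hy
      simpa using this
    have h1 := (inferInstance : (center G).Normal).conj_mem _ (ht.2 _ hy') g
    rwa [conjugate_commutatorElement, show g * (g⁻¹ * y * g) * g⁻¹ = y by group] at h1
  · rintro g hg _ ⟨t, ht, rfl⟩
    exact comm_mem_iff.1 (comm_mem_of_commute (hST g hg t (hQK ht.1)))
  · rintro _ ⟨t, ht, rfl⟩ hd
    exact hKs t (hQK ht.1) (hd.trans (orderOf_map_dvd _ t))
  · rintro g hg hgv _ ⟨t, ht, rfl⟩ hc
    exact mk_eq_one.2 (hfpf g hg hgv t (hQK ht.1)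
      (commute_of_mod hs.out (isElt_of_mem hP hg) (hKs t (hQK ht.1)) (comm_mem_iff.2 hc.symm)))
  · intro hb
    have h1 : (t0 : G ⧸ center G) ∈ bar T := mem_map_of_mem _ ht0T
    rw [hb, mem_bot] at h1
    exact ht0z (mk_eq_one.1 h1)

/-! ### Covering -/

/-- Non-central elements conjugate into `X` are few. -/
theorem ncard_cover_le {X : Subgroup G} (hX : center G ≤ X) {N : Subgroup G}
    (hN : N ≤ normalizer (X : Set G)) :
    {g : G | g ∉ center G ∧ ∃ h : G, h * g * h⁻¹ ∈ X}.ncard + N.index * Nat.card (center G) ≤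
      N.index * Nat.card X := by
  let F : (G ⧸ N) × G → G := fun c => c.1.out * c.2 * c.1.out⁻¹
  set T : Set G := (X : Set G) \ (center G : Set G) with hT
  have hsub : {g : G | g ∉ center G ∧ ∃ h : G, h * g * h⁻¹ ∈ X} ⊆
      F '' ((Set.univ : Set (G ⧸ N)) ×ˢ T) := by
    rintro g ⟨hg, h, hh⟩
    obtain ⟨n, hn⟩ := QuotientGroup.mk_out_eq_mul N h⁻¹
    refine ⟨((h⁻¹ : G), (n : G)⁻¹ * (h * g * h⁻¹) * n), ⟨trivial, ?_, ?_⟩, ?_⟩
    · have := (mem_normalizer_iff.1 (hN (inv_mem n.2)) _).1 hh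
      simpa using this
    · intro hz
      rw [SetLike.mem_coe, show (n : G)⁻¹ * (h * g * h⁻¹) * n =
        ((n : G)⁻¹ * h) * g * ((n : G)⁻¹ * h)⁻¹ by group, conj_mem_center] at hz
      exact hg hz
    · show (QuotientGroup.mk (h⁻¹) : G ⧸ N).out * _ * _⁻¹ = g
      rw [hn]; group
  have h1 := (Set.ncard_le_ncard hsub (Set.toFinite _)).trans (Set.ncard_image_le (Set.toFinite _))
  rw [Set.ncard_prod, Set.ncard_univ] at h1
  have h2 : T.ncard + Nat.card (center G) = Nat.card X := by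
    rw [← Nat.card_coe_set_eq, hT]
    have := Set.ncard_sdiff_add_ncard_of_subset (show (center G : Set G) ⊆ (X : Set G) from hX)
    rwa [← Nat.card_coe_set_eq, ← Nat.card_coe_set_eq, ← Nat.card_coe_set_eq] at this
  calc _ ≤ N.index * T.ncard + N.index * Nat.card (center G) := by
        have : Nat.card (G ⧸ N) = N.index := rfl
        rw [this] at h1
        exact Nat.add_le_add_right h1 _
    _ = _ := by rw [← mul_add, h2]

/-! ### Solvability -/

theorem isSolvable_of_quotient_center (h : Group.IsSolvable (G ⧸ center G)) : Group.IsSolvable G := by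
  haveI := h
  haveI : Group.IsSolvable (center G) := Group.isSolvable_of_comm fun a b => Subtype.ext ((mem_center_iff.1 a.2 b).symm)
  refine Group.isSolvable_of_ker_le_range (center G).subtype (QuotientGroup.mk' (center G)) ?_
  rw [QuotientGroup.ker_mk', Subgroup.range_subtype]

theorem isSolvable_quotient_inf {H : Type*} [Group H] (A B : Subgroup H) [A.Normal] [B.Normal]
    [Group.IsSolvable (H ⧸ A)] [Group.IsSolvable (H ⧸ B)] : Group.IsSolvable (H ⧸ (A ⊓ B)) := by
  let f : H ⧸ (A ⊓ B) →* (H ⧸ A) × (H ⧸ B) := QuotientGroup.lift _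
    ((QuotientGroup.mk' A).prod (QuotientGroup.mk' B)) (by rw [MonoidHom.ker_prod]; simp)
  refine Group.isSolvable_of_isSolvable_injective (f := f) ?_
  refine (injective_iff_map_eq_one f).2 fun x => ?_
  induction x using QuotientGroup.induction_on with
  | H a =>
    intro hx
    simp only [f, QuotientGroup.lift_mk, MonoidHom.prod_apply, Prod.mk_eq_one,
      QuotientGroup.mk'_apply, QuotientGroup.eq_one_iff] at hx
    exact (QuotientGroup.eq_one_iff a).2 hx

/-- A normal subgroup of `p`-power index has a solvable quotient. -/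
theorem isSolvable_quotient_of_index {H : Type*} [Group H] [Finite H] (A : Subgroup H) [A.Normal]
    {p : ℕ} (hp : p.Prime) {k : ℕ} (hk : A.index = p ^ k) : Group.IsSolvable (H ⧸ A) :=
  haveI := Fact.mk hp
  Solvable.isSolvable_of_isPGroup (IsPGroup.of_card hk)

/-- A group whose order has at most two prime divisors is solvable. -/
theorem isSolvable_of_two_primes {H : Type*} [Group H] [Finite H] {p q : ℕ} (hp : p.Prime) (hq : q.Prime)
    (h : ∀ r : ℕ, r.Prime → r ∣ Nat.card H → r = p ∨ r = q) : Group.IsSolvable H := by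
  classical
  set n := Nat.card H with hn
  have hn0 : n ≠ 0 := Nat.card_pos.ne'
  have h2 := Nat.prod_factorization_pow_eq_self hn0
  rw [Finsupp.prod, Nat.support_factorization] at h2
  have hsub : n.primeFactors ⊆ {p, q} := fun r hr => by
    simpa using h r (Nat.prime_of_mem_primeFactors hr) (Nat.dvd_of_mem_primeFactors hr)
  rw [Finset.prod_subset hsub fun r hr hr' => by
    rw [Nat.factorization_eq_zero_iff _ _ |>.2, pow_zero]
    simp only [Nat.mem_primeFactors, not_and, not_not] at hr'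
    rcases Classical.em r.Prime with hrp | hrp
    · exact Or.inr (Or.inl fun hd => hn0 (hr' hrp hd))
    · exact Or.inl hrp] at h2
  by_cases hpq : p = q
  · subst hpq
    rw [Finset.pair_eq_singleton, Finset.prod_singleton] at h2
    exact CharApp.isSolvable_of_card_eq_prime_pow_mul p p hp hp n H rfl (n.factorization p) 0
      (by rw [pow_zero, mul_one]; exact h2.symm)
  · rw [Finset.prod_pair hpq] at h2
    exact CharApp.isSolvable_of_card_eq_prime_pow_mul p q hp hq n H rfl _ _ h2.symm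

/-- Only two primes with non-central elements. -/
theorem isSolvable_of_two_primes_center {p q : ℕ} (hp : p.Prime) (hq : q.Prime)
    (h : ∀ r : ℕ, r.Prime → r ≠ p → r ≠ q → ∀ w : G, IsElt r w → w ∈ center G) : Group.IsSolvable G :=
  isSolvable_of_quotient_center (isSolvable_of_two_primes hp hq fun r hr hd => by
    by_contra hne
    push Not at hne
    haveI := Fact.mk hr
    exact (rElem_central_iff (G := G)).1 (h r hr hne.1 hne.2) hd)

end Cfsg.Agent.ItoSizes
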