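import Cfsg.Agent.Lib.ItoSizes.Tools
import Cfsg.Agent.S4035

/-!
# A prime whose part of the non-central class sizes is constant

`exists_complement`: such a prime `r` (each centraliser having a non-central `r'`-element) gives a
normal `r`-complement in `G ⧸ center G`.
-/

open Subgroup
open scoped commutatorElement

namespace Cfsg.Agent.ItoSizes

open ThreeSizes

set_option linter.unusedSectionVars false

variable {G : Type*} [Group G] [Finite G]

local notation "cent" x:max => Subgroup.centralizer ({x} : Set _)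

/-- The `r`-part of all non-central class sizes is the same and non-trivial. -/
structure ConstHyp (G : Type*) [Group G] (r : ℕ) : Prop where
  const : ∀ a b : G, a ∉ center G → b ∉ center G → cp r (cent a) = cp r (cent b)
  dvd : ∀ g : G, g ∉ center G → r ∣ (cent g).index
  hl : ∀ g : G, g ∉ center G → ∃ w ∈ cent g, w ∉ center G ∧ ¬ r ∣ orderOf w
  ex : ∃ g : G, g ∉ center G

/-- `Ω(R)` -/
def Omega {r : ℕ} (R : Sylow r G) (u : G) : Prop :=
  u ∈ (R : Subgroup G) ∧ u ∉ center G ∧ u ^ r ∈ center G ∧ ∀ g ∈ (R : Subgroup G), ⁅g, u⁆ ∈ center G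

namespace ConstHyp

variable {r : ℕ} [hr : Fact r.Prime] (h : ConstHyp G r)
include h

/-- In the centraliser of an `r`-element the `r`-elements commute with the `r'`-elements. -/
theorem local_split {u : G} (hu : IsElt r u) (huz : u ∉ center G) :
    (∀ x ∈ cent u, ∀ y ∈ cent u, IsElt r x → ¬ r ∣ orderOf y → Commute x y) ∧
    ∃ K : Subgroup G, ∀ k, k ∈ K ↔ k ∈ cent u ∧ ¬ r ∣ orderOf k := by
  obtain ⟨P⟩ : Nonempty (Sylow r ↥(cent u)) := inferInstance
  obtain ⟨hPn, H, hHn, hHc, hinf, hsup⟩ := S4035.result (G := ↥(cent u)) (fun y hy => by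
    have hy' : ¬ r ∣ orderOf (y : G) := by
      rw [Subgroup.orderOf_coe]
      exact fun hd => hr.out.ne_one (Nat.eq_one_of_dvd_coprimes hy hd dvd_rfl)
    rw [← Nat.card_coe_set_eq, ClassIndex.natCard_carrier_eq_index]
    intro hd
    have hco : (orderOf u).Coprime (orderOf (y : G)) := IsElt.coprime_order hr.out hu hy'
    have he := cent_mul (mem_cent.1 y.2).symm hco
    have hne : u * (y : G) ∉ center G := fun hz => huz (by
      have : cent u = ⊤ := top_le_iff.1 (by
        rw [← mem_center_of_cent.1 hz, he]; exact inf_le_left)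
      exact mem_center_of_cent.2 this)
    have hidx : (cent y).index * (cent u).index = (cent (u * (y : G))).index := by
      rw [centralizer_subtype, he, inf_comm,
        ← relIndex_mul_index (inf_le_right : cent (y : G) ⊓ cent u ≤ cent u), inf_relIndex_right]
      rfl
    have h1 := factorization_add r (cent (u * (y : G)))
    have h2 := factorization_add r (cent u)
    have h3 : (Nat.card (cent (u * (y : G)))).factorization r = (Nat.card (cent u)).factorization r := by
      have := h.const _ _ hne huz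
      exact (Nat.pow_right_injective hr.out.two_le) this
    rw [← hidx, Nat.factorization_mul index_ne_zero_of_finite index_ne_zero_of_finite,
      Finsupp.add_apply] at h1
    have := hr.out.factorization_pos_of_dvd index_ne_zero_of_finite hd
    omega) P
  haveI := hPn; haveI := hHn
  have hdisj : Disjoint (P : Subgroup ↥(cent u)) H := disjoint_iff.2 hinf
  have hP : ∀ x : ↥(cent u), IsElt r (x : G) → x ∈ (P : Subgroup ↥(cent u)) := fun x hx => by
    obtain ⟨k, hk⟩ := hx
    rw [Subgroup.orderOf_coe] at hk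
    exact SylowTwoSizes.mem_sylow_of_normalizes P ⟨k, hk⟩ (by rw [normalizer_eq_top]; exact mem_top _)
  have hH : ∀ y : ↥(cent u), ¬ r ∣ orderOf y → y ∈ H := fun y hy => by
    have hc := (isComplement'_of_disjoint_and_mul_eq_univ hdisj
      (by rw [← Subgroup.normal_mul, hsup, coe_top])).index_eq_card
    have h1 : (P : Subgroup ↥(cent u)) ⊔ H = ⊤ := hsup
    refine (QuotientGroup.eq_one_iff (N := H) y).1 (orderOf_eq_one_iff.1 ?_)
    have e1 : orderOf (y : ↥(cent u) ⧸ H) ∣ orderOf y := orderOf_map_dvd (QuotientGroup.mk' H) y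
    have e2 : orderOf (y : ↥(cent u) ⧸ H) ∣ r ^ (Nat.card ↥(cent u)).factorization r := by
      rw [← P.card_eq_multiplicity, ← hc]
      exact orderOf_dvd_natCard _
    exact Nat.eq_one_of_dvd_coprimes (Nat.Coprime.pow_left _ (hr.out.coprime_iff_not_dvd.2 hy)) e2 e1
  refine ⟨fun x hx y hy hxr hyr => ?_, H.map (cent u).subtype, fun k => ⟨?_, fun ⟨hk, hkr⟩ => ?_⟩⟩
  · have := commute_of_normal_of_disjoint (P : Subgroup ↥(cent u)) H hPn hHn hdisj ⟨x, hx⟩ ⟨y, hy⟩
      (hP ⟨x, hx⟩ hxr) (hH ⟨y, hy⟩ (by rwa [← Subgroup.orderOf_coe]))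
    exact congrArg Subtype.val this.eq
  · rintro ⟨y, hy, rfl⟩
    refine ⟨y.2, fun hd => hHc ?_⟩
    rw [coe_subtype, Subgroup.orderOf_coe] at hd
    exact hd.trans (Subgroup.orderOf_mk (H := H) y hy ▸ orderOf_dvd_natCard (⟨y, hy⟩ : H))
  · exact ⟨⟨k, hk⟩, hH ⟨k, hk⟩ (by rwa [← Subgroup.orderOf_coe]), rfl⟩

theorem c_lt {g : G} (hg : g ∉ center G) : cp r (cent g) < cp r (⊤ : Subgroup G) :=
  lt_of_le_of_ne (cp_mono le_top) fun e => cp_eq_top_iff.1 e (h.dvd g hg)

theorem z_lt {g : G} (hg : g ∉ center G) : cp r (center G) < cp r (cent g) := by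
  obtain ⟨v, hv, hvr⟩ := exists_noncentral_of_dvd (h.dvd g hg)
  rw [h.const g v hg hv]
  exact cp_center_lt hv hvr (center_le_cent v) (self_mem v)

variable (R : Sylow r G)

/-- Elements central of order `r` modulo the centre in `R`. -/
theorem exists_omega : ∃ u ∈ (R : Subgroup G),
    u ∉ center G ∧ u ^ r ∈ center G ∧ ∀ g ∈ (R : Subgroup G), ⁅g, u⁆ ∈ center G := by
  obtain ⟨g, hg⟩ := h.ex
  refine exists_z2 R.2 le_rfl le_normalizer fun hle => ?_
  have := card_le_cp R.2 hle
  rw [card_sylow] at this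
  have := h.z_lt hg; have := h.c_lt hg
  omega

variable {R}

theorem card_D {u : G} (hu : Omega R u) {g : G} (hg : g ∉ center G) :
    Nat.card ↥((R : Subgroup G) ⊓ cent u) = cp r (cent g) := by
  rw [h.const g u hg hu.2.1]
  exact card_inf_normalised R fun x hx => normalizer_of_mod (hu.2.2.2 x hx)

/-- Two subgroups of `R` of full order centralising a non-central element coincide. -/
theorem eq_of_le_cent {D₁ D₂ : Subgroup G} (h₁ : D₁ ≤ (R : Subgroup G)) (h₂ : D₂ ≤ (R : Subgroup G))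
    {w : G} (hw : w ∉ center G) (hc₁ : Nat.card D₁ = cp r (cent w)) (hc₂ : Nat.card D₂ = cp r (cent w))
    (hd₁ : D₁ ≤ cent w) (hd₂ : D₂ ≤ cent w) : D₁ = D₂ := by
  have hle := card_le_cp (R.2.to_le (sup_le h₁ h₂)) (sup_le hd₁ hd₂)
  have e1 : D₁ = D₁ ⊔ D₂ := eq_of_le_of_card_ge le_sup_left (hle.trans hc₁.ge)
  have e2 : D₂ = D₁ ⊔ D₂ := eq_of_le_of_card_ge le_sup_right (hle.trans hc₂.ge)
  exact e1.trans e2.symm

/-- `|R| = r · |D|`. -/
theorem card_R {g : G} (hg : g ∉ center G) : Nat.card R = r * cp r (cent g) := by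
  obtain ⟨u, hu⟩ := h.exists_omega R
  have hu' : Omega R u := hu
  rw [← h.card_D hu' hg]
  have hur : IsElt r u := isElt_of_mem R.2 hu.1
  obtain ⟨hcomm, K, hK⟩ := h.local_split hur hu.2.1
  have hRu : ¬ (R : Subgroup G) ≤ cent u := fun hle => by
    have := card_le_cp R.2 hle
    rw [card_sylow] at this
    have := h.c_lt hu.2.1
    omega
  refine card_eq_prime_mul R.2 (K := K) hu.2.2.1 hu.2.2.2 hRu ?_ (fun k hk => ((hK k).1 hk).2)
    (fun x hx k hk => hcomm x hx.2 k ((hK k).1 hk).1 (isElt_of_mem R.2 hx.1) ((hK k).1 hk).2) ?_ ?_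
  · intro x hx
    refine Coprime.mem_normalizer_of_forall fun k hk => (hK _).2 ⟨?_, not_dvd_conj ((hK k).1 hk).2⟩
    exact (mem_normalizer_iff.1 (normalizer_of_mod (hu.2.2.2 x hx)) k).1 ((hK k).1 hk).1
  · intro x hx hxu k hk hc
    by_contra hkz
    have hD : (R : Subgroup G) ⊓ cent u ≤ cent k := fun d hd => mem_cent.2
      (hcomm d hd.2 k ((hK k).1 hk).1 (isElt_of_mem R.2 hd.1) ((hK k).1 hk).2).eq
    have hlt : (R : Subgroup G) ⊓ cent u < ((R : Subgroup G) ⊓ cent u) ⊔ zpowers x :=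
      lt_of_le_of_ne le_sup_left fun e => hxu (e.ge (mem_sup_right (mem_zpowers x))).2
    have h1 := card_le_cp (R.2.to_le (sup_le inf_le_left (zpowers_le.2 hx)))
      (sup_le hD (zpowers_le.2 (mem_cent.2 hc.eq)))
    rw [← h.card_D hu' hkz] at h1
    exact hlt.ne (eq_of_le_of_card_ge hlt.le h1)
  · intro hle
    obtain ⟨w, hw, hwz, hwr⟩ := h.hl u hu.2.1
    exact hwz (hle ((hK w).2 ⟨hw, hwr⟩))

theorem normal_D {D : Subgroup G} (hD : D ≤ (R : Subgroup G)) {g : G} (hg : g ∉ center G)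
    (hc : Nat.card D = cp r (cent g)) : (R : Subgroup G) ≤ normalizer (D : Set G) :=
  (normal_of_index R.2 hD (by rw [h.card_R hg, hc])).1

/-- A subgroup of full order centralising an `r'`-element is some `D_u`. -/
theorem eq_D {D : Subgroup G} (hD : D ≤ (R : Subgroup G)) {w : G} (hw : w ∉ center G)
    (hwr : ¬ r ∣ orderOf w) (hc : Nat.card D = cp r (cent w)) (hDw : D ≤ cent w) :
    ∃ u, Omega R u ∧ u ∈ D ∧ D = (R : Subgroup G) ⊓ cent u := by
  obtain ⟨u, huD, huz, hur, hcomm⟩ := exists_z2 R.2 hD (h.normal_D hD hw hc) fun hle => by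
    have := card_le_cp (R.2.to_le hD) hle
    have := h.z_lt hw
    omega
  have hu : Omega R u := ⟨hD huD, huz, hur, hcomm⟩
  refine ⟨u, hu, huD, h.eq_of_le_cent hD inf_le_left hw hc (h.card_D hu hw) hDw fun d hd => ?_⟩
  exact mem_cent.2 ((h.local_split (isElt_of_mem R.2 (hD huD)) huz).1 d hd.2 w (mem_cent_symm (hDw huD))
    (isElt_of_mem R.2 hd.1) hwr).eq

/-- Distinct `D`'s meet centrally. -/
theorem inf_D {a b : G} (ha : Omega R a) (hb : Omega R b)
    (hne : (R : Subgroup G) ⊓ cent a ≠ (R : Subgroup G) ⊓ cent b) :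
    ((R : Subgroup G) ⊓ cent a) ⊓ ((R : Subgroup G) ⊓ cent b) ≤ center G := by
  by_contra hnle
  have hn : (R : Subgroup G) ≤ normalizer
      (((((R : Subgroup G) ⊓ cent a) ⊓ ((R : Subgroup G) ⊓ cent b)) : Subgroup G) : Set G) := by
    intro x hx
    have h1 := h.normal_D inf_le_left ha.2.1 (h.card_D ha ha.2.1) hx
    have h2 := h.normal_D inf_le_left hb.2.1 (h.card_D hb hb.2.1) hx
    exact Coprime.mem_normalizer_of_forall fun d hd =>
      ⟨(mem_normalizer_iff.1 h1 d).1 hd.1, (mem_normalizer_iff.1 h2 d).1 hd.2⟩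
  obtain ⟨v, hv, hvz, hvr, hvc⟩ := exists_z2 R.2 (inf_le_left.trans inf_le_left) hn hnle
  have hvO : Omega R v := ⟨hv.1.1, hvz, hvr, hvc⟩
  have key : ∀ c : G, Omega R c → v ∈ cent c →
      (R : Subgroup G) ⊓ cent c = (R : Subgroup G) ⊓ cent v := by
    intro c hc hvc
    obtain ⟨w, hw, hwz, hwr⟩ := h.hl c hc.2.1
    have hcs := h.local_split (isElt_of_mem R.2 hc.1) hc.2.1
    have hwv : w ∈ cent v :=
      mem_cent.2 (hcs.1 v hvc w hw (isElt_of_mem R.2 hv.1.1) hwr).eq.symm
    refine h.eq_of_le_cent inf_le_left inf_le_left hwz (h.card_D hc hwz) (h.card_D hvO hwz)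
      (fun d hd => mem_cent.2 (hcs.1 d hd.2 w hw (isElt_of_mem R.2 hd.1) hwr).eq) fun d hd => ?_
    exact mem_cent.2 ((h.local_split (isElt_of_mem R.2 hv.1.1) hvz).1 d hd.2 w hwv
      (isElt_of_mem R.2 hd.1) hwr).eq
  exact hne ((key a ha hv.1.2).trans (key b hb hv.2.2).symm)

/-- Every non-central element has a conjugate centralising some `D_u`. -/
theorem cover {g : G} (hg : g ∉ center G) : ∃ u, Omega R u ∧
    ∃ c : G, c * g * c⁻¹ ∈ centralizer (((R : Subgroup G) ⊓ cent u : Subgroup G) : Set G) := by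
  obtain ⟨U, hU, hUp, hUc⟩ := exists_le_card_cp r (cent g)
  obtain ⟨c, hc⟩ := exists_conj_mem (card_sylow R) hUp
  set D := U.map (MulAut.conj c).toMonoidHom with hDdef
  have hDR : D ≤ (R : Subgroup G) := by rintro _ ⟨x, hx, rfl⟩; exact hc x hx
  have hDg : D ≤ cent (c * g * c⁻¹) := by
    rw [cent_conj]; exact map_mono hU
  have hg' : c * g * c⁻¹ ∉ center G := fun hz => hg (conj_mem_center.1 hz)
  have hDc : ∀ w : G, w ∉ center G → Nat.card D = cp r (cent w) := fun w hw => by
    rw [hDdef, card_map_of_injective (MulAut.conj c).injective, hUc, h.const g w hg hw]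
  obtain ⟨δ, w, hgw, -, hδm, hwm, hδ, hw⟩ := exists_parts hr.out (c * g * c⁻¹)
  have fin : ∀ w' : G, w' ∉ center G → ¬ r ∣ orderOf w' → D ≤ cent w' →
      ∃ u, Omega R u ∧ ∃ c : G,
        c * g * c⁻¹ ∈ centralizer (((R : Subgroup G) ⊓ cent u : Subgroup G) : Set G) := by
    intro w' hw' hw'r hle
    obtain ⟨u, hu, -, he⟩ := h.eq_D hDR hw' hw'r (hDc w' hw') hle
    exact ⟨u, hu, c, mem_centralizer_iff.2 fun d hd => mem_cent.1 (hDg (he.ge hd))⟩
  by_cases hwz : w ∈ center G
  · have hδz : δ ∉ center G := fun hz => hg' (hgw ▸ mul_mem hz hwz)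
    obtain ⟨w', hw', hw'z, hw'r⟩ := h.hl δ hδz
    exact fin w' hw'z hw'r fun d hd => mem_cent.2 ((h.local_split hδ hδz).1 d
      (cent_le_of_mem_zpowers hδm (hDg hd)) w' hw' (isElt_of_mem R.2 (hDR hd)) hw'r).eq
  · exact fin w hwz hw (hDg.trans (cent_le_of_mem_zpowers hwm))

/-- There are two different `D`'s. -/
theorem exists_two : ∃ a b, Omega R a ∧ Omega R b ∧
    (R : Subgroup G) ⊓ cent a ≠ (R : Subgroup G) ⊓ cent b := by
  by_contra hno
  push Not at hno
  obtain ⟨u, hu⟩ := h.exists_omega R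
  have htop : centralizer (((R : Subgroup G) ⊓ cent u : Subgroup G) : Set G) = ⊤ := by
    refine ClassIndex.eq_top_of_conj_cover fun g => ?_
    by_cases hg : g ∈ center G
    · exact ⟨1, mem_centralizer_iff.2 fun d _ => by simpa using mem_center_iff.1 hg d⟩
    obtain ⟨v, hv, c, hc⟩ := h.cover (R := R) hg
    rw [hno v u hv hu] at hc
    exact ⟨c⁻¹, by rwa [inv_inv]⟩
  refine hu.2.1 (mem_center_iff.2 fun g => ?_)
  exact (mem_centralizer_iff.1 (htop ▸ mem_top g :
    g ∈ centralizer (((R : Subgroup G) ⊓ cent u : Subgroup G) : Set G)) u ⟨hu.1, self_mem u⟩).symm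

/-- `|R| = r² z` and `R` is abelian modulo the centre. -/
theorem structure_R : Nat.card R = r ^ 2 * cp r (center G) ∧
    (∀ g : G, g ∉ center G → cp r (cent g) = r * cp r (center G)) ∧
    ∀ x ∈ (R : Subgroup G), ∀ y ∈ (R : Subgroup G), ⁅x, y⁆ ∈ center G := by
  obtain ⟨a, b, ha, hb, hne⟩ := h.exists_two (R := R)
  set Da := (R : Subgroup G) ⊓ cent a with hDa
  set Db := (R : Subgroup G) ⊓ cent b with hDb
  set c := cp r (cent a) with hcdef
  have hca : Nat.card Da = c := h.card_D ha ha.2.1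
  have hcb : Nat.card Db = c := h.card_D hb ha.2.1
  have hR := h.card_R (R := R) ha.2.1
  have hab : Da ⊔ Db = (R : Subgroup G) := by
    refine eq_of_le_of_card_ge (sup_le inf_le_left inf_le_left) ?_
    rw [hR, ← hcdef, ← hca]
    refine mul_card_le (R.2.to_le (sup_le inf_le_left inf_le_left)) (lt_of_le_of_ne le_sup_left ?_)
    intro e
    exact hne (eq_of_le_of_card_ge (e.symm ▸ le_sup_right) (by omega)).symm
  have hinf : Da ⊓ Db = (R : Subgroup G) ⊓ center G :=
    le_antisymm (le_inf (inf_le_left.trans inf_le_left) (h.inf_D ha hb hne))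
      (le_inf (inf_le_inf_left _ (center_le_cent a)) (inf_le_inf_left _ (center_le_cent b)))
  have h1 := card_sup_mul (D := Da) (U := Db)
    (inf_le_left.trans (h.normal_D inf_le_left ha.2.1 hca))
  rw [hab, hinf, card_inf_center, hca, hcb, hR] at h1
  have hcpos : 0 < c := cp_pos _
  have hc : c = r * cp r (center G) := by
    have : c * c = c * (r * cp r (center G)) := by rw [← h1]; ring
    exact Nat.eq_of_mul_eq_mul_left hcpos this
  have hR2 : Nat.card R = r ^ 2 * cp r (center G) := by rw [hR, ← hcdef, hc]; ring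
  refine ⟨hR2, fun g hg => (h.const g a hg ha.2.1).trans hc, fun x hx y hy => ?_⟩
  have hb2 : Nat.card (bar (R : Subgroup G)) = r ^ 2 := by
    have h2 := card_bar_mul (R : Subgroup G)
    rw [card_inf_center] at h2
    exact Nat.eq_of_mul_eq_mul_right (cp_pos _) (h2.trans hR2)
  exact comm_mem_iff.2 (congrArg Subtype.val
    (IsPGroup.commutative_of_card_eq_prime_sq hb2 ⟨_, mem_map_of_mem _ hx⟩ ⟨_, mem_map_of_mem _ hy⟩))

omit h in
/-- Elements acting trivially on `R` modulo the centre. -/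
def C0 (R : Subgroup G) : Subgroup G where
  carrier := {n | n ∈ normalizer (R : Set G) ∧ ∀ x ∈ R, ⁅n, x⁆ ∈ center G}
  one_mem' := ⟨one_mem _, fun x _ => by rw [commutatorElement_one_left]; exact one_mem _⟩
  mul_mem' := fun {a b} ha hb => ⟨mul_mem ha.1 hb.1, fun x hx => comm_mem_iff.2 (by
    rw [QuotientGroup.mk_mul]
    exact (comm_mem_iff.1 (ha.2 x hx)).mul_left (comm_mem_iff.1 (hb.2 x hx)))⟩
  inv_mem' := fun {a} ha => ⟨inv_mem ha.1, fun x hx => comm_mem_iff.2 (by
    rw [QuotientGroup.mk_inv]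
    exact (comm_mem_iff.1 (ha.2 x hx)).inv_left)⟩

theorem stab_bound {u : G} (hu : Omega R u) :
    r * ({g : G | g ∉ center G ∧
        ∃ c : G, c * g * c⁻¹ ∈ centralizer (((R : Subgroup G) ⊓ cent u : Subgroup G) : Set G)}.ncard *
      Nat.card ↥(normalizer ((R : Subgroup G) : Set G) ⊓
        normalizer (((R : Subgroup G) ⊓ cent u : Subgroup G) : Set G))) <
      Nat.card G * Nat.card (C0 (R : Subgroup G)) := by
  obtain ⟨-, -, hRab⟩ := h.structure_R (R := R)
  set D := (R : Subgroup G) ⊓ cent u with hD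
  set N0 := normalizer ((R : Subgroup G) : Set G) with hN0
  set St := N0 ⊓ normalizer (D : Set G) with hSt
  set X := centralizer (D : Set G) with hXdef
  have hXZ : center G ≤ X := fun z hz => mem_centralizer_iff.2 fun d _ => mem_center_iff.1 hz d
  have hStX : St ≤ normalizer (X : Set G) :=
    inf_le_right.trans (PLocal.normalizer_le_normalizer_centralizer _)
  have hcov := ncard_cover_le hXZ (N := St ⊔ X) (sup_le hStX le_normalizer)
  have hcard : Nat.card ↥(St ⊔ X) * Nat.card ↥(X ⊓ St) = Nat.card X * Nat.card St := by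
    rw [sup_comm]; exact PLocal.card_sup_mul_card_inf hStX
  have hk : X ⊓ St ≤ C0 (R : Subgroup G) := by
    rintro k ⟨hkX, hkN, -⟩
    refine ⟨hkN, fun x hx => ?_⟩
    have hxk : k * x * k⁻¹ ∈ (R : Subgroup G) := (mem_normalizer_iff.1 hkN x).1 hx
    have hku : k * u * k⁻¹ = u := by
      rw [← mem_centralizer_iff.1 hkX u ⟨hu.1, self_mem u⟩, mul_inv_cancel_right]
    have hd : ⁅k, x⁆ ∈ D := by
      rw [commutatorElement_def]
      refine ⟨Subgroup.mul_mem _ hxk (Subgroup.inv_mem _ hx), ?_⟩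
      have e1 : ⁅k * x * k⁻¹, u⁆ = ⁅x, u⁆ := by
        conv_lhs => rw [← hku]
        rw [← conjugate_commutatorElement, mem_center_iff.1 (hu.2.2.2 x hx) k, mul_inv_cancel_right]
      have e2 : k * x * k⁻¹ * u * (k * x * k⁻¹)⁻¹ = x * u * x⁻¹ := by
        rw [conj_eq_comm_mul (k * x * k⁻¹), conj_eq_comm_mul x, e1]
      have e3 : x⁻¹ * (k * x * k⁻¹) ∈ cent u := mem_cent.2 (by
        calc x⁻¹ * (k * x * k⁻¹) * u = x⁻¹ * (k * x * k⁻¹ * u * (k * x * k⁻¹)⁻¹) * (k * x * k⁻¹) := by
              group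
          _ = _ := by rw [e2]; group)
      have e4 := (mem_normalizer_iff.1 (normalizer_of_mod (hu.2.2.2 x hx)) _).1 e3
      rw [mul_inv_cancel_left] at e4
      exact e4
    obtain ⟨k₁, k₂, hk12, -, h1, h2, hk1r, hk2r⟩ := exists_parts hr.out k
    have hk1R : k₁ ∈ (R : Subgroup G) :=
      SylowTwoSizes.mem_sylow_of_normalizes R hk1r (zpowers_le.2 hkN h1)
    have hk2X : k₂ ∈ X := zpowers_le.2 hkX h2
    have hk2N : k₂ ∈ N0 := zpowers_le.2 hkN h2
    -- the commutator of `k₂` and `x`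
    have hx2 : k₂ * x * k₂⁻¹ ∈ (R : Subgroup G) := (mem_normalizer_iff.1 hk2N x).1 hx
    have hd2 : ⁅k₂, x⁆ ∈ D := by
      have e : ⁅k₂, x⁆ = k₁⁻¹ * (⁅k, x⁆ * (x * k₁ * x⁻¹ * k₁⁻¹)) * k₁ := by
        rw [hk12]; simp only [commutatorElement_def]; group
      rw [e]
      have hn := h.normal_D inf_le_left hu.2.1 (h.card_D hu hu.2.1) hk1R
      refine (mem_normalizer_iff''.1 hn _).1 (mul_mem hd ?_)
      have : x * k₁ * x⁻¹ * k₁⁻¹ ∈ (R : Subgroup G) ⊓ center G :=
        ⟨Subgroup.mul_mem _ (Subgroup.mul_mem _ (Subgroup.mul_mem _ hx hk1R) (Subgroup.inv_mem _ hx))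
          (Subgroup.inv_mem _ hk1R), (commutatorElement_def x k₁) ▸ hRab x hx k₁ hk1R⟩
      exact ⟨this.1, center_le_cent u this.2⟩
    have hcm : Commute ⁅k₂, x⁆ k₂ := mem_centralizer_iff.1 hk2X _ hd2
    have hpw : ∀ i : ℕ, k₂ ^ i * x * (k₂ ^ i)⁻¹ = ⁅k₂, x⁆ ^ i * x := by
      intro i
      induction i with
      | zero => simp
      | succ i ih =>
        rw [pow_succ', mul_inv_rev, show k₂ * k₂ ^ i * x * ((k₂ ^ i)⁻¹ * k₂⁻¹) =
          k₂ * (k₂ ^ i * x * (k₂ ^ i)⁻¹) * k₂⁻¹ by group, ih, ← mul_assoc, ← (hcm.pow_left i).eq,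
          mul_assoc (⁅k₂, x⁆ ^ i) k₂ x, mul_assoc, conj_eq_comm_mul, ← mul_assoc, ← pow_succ]
    have hone : ⁅k₂, x⁆ = 1 := by
      refine eq_one_of_isElt (isElt_of_mem R.2 hd2.1) fun hdv => hk2r (hdv.trans ?_)
      refine orderOf_dvd_of_pow_eq_one ?_
      have := hpw (orderOf k₂)
      rw [pow_orderOf_eq_one, one_mul, inv_one, mul_one, eq_comm, mul_eq_right] at this
      exact this
    refine comm_mem_iff.2 ?_
    rw [hk12, QuotientGroup.mk_mul]
    exact (comm_mem_iff.1 (hRab k₁ hk1R x hx)).mul_left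
      (comm_mem_iff.1 (by rw [hone]; exact one_mem _))
  have hRC : (R : Subgroup G) ≤ C0 (R : Subgroup G) := fun y hy => ⟨le_normalizer hy, hRab y hy⟩
  have hrk : r * Nat.card ↥(X ⊓ St) ≤ Nat.card (C0 (R : Subgroup G)) := by
    have h1 := ((X ⊓ St).subgroupOf (C0 (R : Subgroup G))).card_mul_index
    rw [Nat.card_congr (subgroupOfEquivOfLe hk).toEquiv] at h1
    rw [← h1, mul_comm]
    refine Nat.mul_le_mul_left _ ?_
    refine le_trans ?_ (relIndex_le_of_le_right (H := X ⊓ St) hRC index_ne_zero_of_finite)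
    have h2 := ((X ⊓ St).subgroupOf (R : Subgroup G)).card_mul_index
    have h3 : Nat.card ((X ⊓ St).subgroupOf (R : Subgroup G)) ≤ Nat.card D := by
      rw [← card_map_of_injective (R : Subgroup G).subtype_injective, subgroupOf_map_subtype]
      refine card_le_of_le fun y hy => ⟨hy.2, mem_cent.2 ?_⟩
      exact (mem_centralizer_iff.1 hy.1.1 u ⟨hu.1, self_mem u⟩).symm
    have h4 := h.card_R (R := R) hu.2.1
    rw [h.card_D hu hu.2.1] at h3
    have : r * cp r (cent u) ≤ cp r (cent u) * (X ⊓ St).relIndex (R : Subgroup G) := by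
      rw [← h4, ← h2]; exact Nat.mul_le_mul_right _ h3
    rw [mul_comm r] at this
    exact Nat.le_of_mul_le_mul_left this (cp_pos _)
  set n := {g : G | g ∉ center G ∧ ∃ c : G, c * g * c⁻¹ ∈ X}.ncard with hn
  have hlt : n < (St ⊔ X).index * Nat.card X := by
    have : 0 < (St ⊔ X).index * Nat.card (center G) :=
      Nat.mul_pos (Nat.pos_of_ne_zero index_ne_zero_of_finite) Nat.card_pos
    omega
  have hG : (St ⊔ X).index * Nat.card X * Nat.card St = Nat.card G * Nat.card ↥(X ⊓ St) := by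
    rw [mul_assoc, ← hcard, ← (St ⊔ X).card_mul_index]; ring
  calc r * (n * Nat.card St) < r * ((St ⊔ X).index * Nat.card X * Nat.card St) :=
        Nat.mul_lt_mul_of_pos_left (Nat.mul_lt_mul_of_pos_right hlt Nat.card_pos) hr.out.pos
    _ = Nat.card G * (r * Nat.card ↥(X ⊓ St)) := by rw [hG]; ring
    _ ≤ _ := Nat.mul_le_mul_left _ hrk

/-- The normaliser of `R` acts trivially on `R` modulo the centre. -/
theorem normalizer_le_C0 : normalizer ((R : Subgroup G) : Set G) ≤ C0 (R : Subgroup G) := by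
  classical
  haveI := Fintype.ofFinite G
  haveI := Fintype.ofFinite (Subgroup G)
  obtain ⟨hR2, hc, hRab⟩ := h.structure_R (R := R)
  set N0 := normalizer ((R : Subgroup G) : Set G) with hN0
  set z := cp r (center G) with hz
  by_contra hnle
  have hC0N : C0 (R : Subgroup G) ≤ N0 := fun n hn => hn.1
  have h2C : 2 * Nat.card (C0 (R : Subgroup G)) ≤ Nat.card N0 := by
    have h1 := ((C0 (R : Subgroup G)).subgroupOf N0).card_mul_index
    rw [Nat.card_congr (subgroupOfEquivOfLe hC0N).toEquiv] at h1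
    rw [← h1, mul_comm 2]
    refine Nat.mul_le_mul_left _ (Nat.one_lt_iff_ne_zero_and_ne_one.2 ⟨index_ne_zero_of_finite, ?_⟩)
    exact fun h => hnle (relIndex_eq_one.1 h)
  let Δ : Finset (Subgroup G) :=
    Finset.univ.filter fun D => ∃ u, Omega R u ∧ D = (R : Subgroup G) ⊓ cent u
  have hmemΔ : ∀ {D}, D ∈ Δ ↔ ∃ u, Omega R u ∧ D = (R : Subgroup G) ⊓ cent u := by simp [Δ]
  -- at most `r + 1` subgroups
  have hzpos : 0 < z := cp_pos _
  have hΔ : Δ.card ≤ r + 1 := by
    have hdisj : Set.PairwiseDisjoint (Δ : Set (Subgroup G))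
        fun D => Finset.univ.filter fun x : G => x ∈ D ∧ x ∉ center G := by
      intro D hD E hE hne
      obtain ⟨a, ha, rfl⟩ := hmemΔ.1 hD
      obtain ⟨b, hb, rfl⟩ := hmemΔ.1 hE
      refine Finset.disjoint_left.2 fun x hx hx' => ?_
      simp only [Finset.mem_filter] at hx hx'
      exact hx.2.2 (h.inf_D ha hb hne ⟨hx.2.1, hx'.2.1⟩)
    have hcount : ∀ H : Subgroup G, H ≤ (R : Subgroup G) → (R : Subgroup G) ⊓ center G ≤ H →
        (Finset.univ.filter fun x : G => x ∈ H ∧ x ∉ center G).card + z = Nat.card H := by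
      intro H hH hzH
      rw [hz, ← card_inf_center R, Nat.card_eq_fintype_card, Nat.card_eq_fintype_card,
        Fintype.card_subtype, Fintype.card_subtype, ← Finset.card_union_of_disjoint]
      · congr 1
        ext x
        simp only [Finset.mem_union, Finset.mem_filter, Finset.mem_univ, true_and, mem_inf]
        exact ⟨fun h => h.elim (·.1) fun h' => hzH h',
          fun hx => (em (x ∈ center G)).elim (fun h => Or.inr ⟨hH hx, h⟩) fun h => Or.inl ⟨hx, h⟩⟩
      · refine Finset.disjoint_left.2 fun x hx hx' => ?_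
        simp only [Finset.mem_filter, mem_inf] at hx hx'
        exact hx.2.2 hx'.2.2
    have hone : ∀ D ∈ Δ, (Finset.univ.filter fun x : G => x ∈ D ∧ x ∉ center G).card + z = r * z := by
      intro D hD
      obtain ⟨a, ha, rfl⟩ := hmemΔ.1 hD
      rw [hcount _ inf_le_left (inf_le_inf_left _ (center_le_cent a)), h.card_D ha ha.2.1, hc a ha.2.1]
    have hU : (Δ.biUnion fun D => Finset.univ.filter fun x : G => x ∈ D ∧ x ∉ center G).card ≤
        (Finset.univ.filter fun x : G => x ∈ (R : Subgroup G) ∧ x ∉ center G).card := by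
      refine Finset.card_le_card fun x hx => ?_
      simp only [Finset.mem_biUnion, Finset.mem_filter, Finset.mem_univ, true_and] at hx ⊢
      obtain ⟨D, hD, hxD, hxz⟩ := hx
      obtain ⟨a, -, rfl⟩ := hmemΔ.1 hD
      exact ⟨hxD.1, hxz⟩
    rw [Finset.card_biUnion hdisj] at hU
    have hR' := hcount (R : Subgroup G) le_rfl inf_le_left
    have hsum : ∑ D ∈ Δ, (Finset.univ.filter fun x : G => x ∈ D ∧ x ∉ center G).card + Δ.card * z =
        Δ.card * (r * z) := by
      rw [← Finset.sum_const_nat (m := z) fun _ _ => rfl, ← Finset.sum_add_distrib,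
        Finset.sum_congr rfl hone, Finset.sum_const_nat fun _ _ => rfl]
    rw [hR2] at hR'
    by_contra hgt
    push Not at hgt
    have h5 : (r + 2) * (r * z) ≤ Δ.card * (r * z) := Nat.mul_le_mul_right _ hgt
    have h6 : Δ.card * (r * z) + z ≤ r ^ 2 * z + Δ.card * z := by omega
    have h7 : 2 ≤ r := hr.out.two_le
    obtain ⟨t, ht⟩ := Nat.exists_eq_add_of_le (show r + 2 ≤ Δ.card by omega)
    rw [ht] at h6
    nlinarith [Nat.mul_le_mul_right (t * z) h7, Nat.mul_le_mul_right z h7]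
  -- double counting
  let Φ : Subgroup G → Finset G := fun D => Finset.univ.filter fun g =>
    g ∉ center G ∧ ∃ c : G, c * g * c⁻¹ ∈ centralizer (D : Set G)
  let St : Subgroup G → Subgroup G := fun D => N0 ⊓ normalizer (D : Set G)
  have hb : ∀ D ∈ Δ, r * ((Φ D).card * Nat.card (St D)) < Nat.card G * Nat.card (C0 (R : Subgroup G)) := by
    intro D hD
    obtain ⟨u, hu, rfl⟩ := hmemΔ.1 hD
    have := h.stab_bound hu
    rwa [Set.ncard_eq_toFinset_card', Set.toFinset_setOf] at this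
  have horb : ∀ g : G, g ∉ center G →
      Nat.card N0 ≤ ∑ D ∈ Δ, if g ∈ Φ D then Nat.card (St D) else 0 := by
    intro g hg
    obtain ⟨u, hu, c, hcu⟩ := h.cover (R := R) hg
    let F : ↥N0 → Subgroup G := fun n => (R : Subgroup G) ⊓ cent ((n : G) * u * (n : G)⁻¹)
    have hFmap : ∀ n : ↥N0,
        F n = ((R : Subgroup G) ⊓ cent u).map (MulAut.conj (n : G)).toMonoidHom := fun n => by
      rw [Subgroup.map_inf _ _ _ (MulAut.conj (n : G)).injective, ← cent_conj,
        PLocal.mem_normalizer_iff_map_eq.1 n.2]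
    have hF : ∀ n : ↥N0, F n ∈ Δ.filter fun D => g ∈ Φ D := by
      intro n
      refine Finset.mem_filter.2 ⟨hmemΔ.2 ⟨_, ⟨(mem_normalizer_iff.1 n.2 u).1 hu.1,
        fun hzz => hu.2.1 (conj_mem_center.1 hzz), ?_, fun x hx => ?_⟩, rfl⟩, ?_⟩
      · rw [conj_pow, conj_mem_center]; exact hu.2.2.1
      · have hx' : (n : G)⁻¹ * x * n ∈ (R : Subgroup G) := (mem_normalizer_iff''.1 n.2 x).1 hx
        have h1 := (inferInstance : (center G).Normal).conj_mem _ (hu.2.2.2 _ hx') n
        rwa [conjugate_commutatorElement,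
          show (n : G) * ((n : G)⁻¹ * x * n) * (n : G)⁻¹ = x by group] at h1
      · refine Finset.mem_filter.2 ⟨Finset.mem_univ _, hg, (n : G) * c, ?_⟩
        refine mem_centralizer_iff.2 fun y hy => ?_
        rw [SetLike.mem_coe, hFmap] at hy
        obtain ⟨y, hy, rfl⟩ := hy
        have h1 := mem_centralizer_iff.1 hcu y hy
        rw [MulEquiv.coe_toMonoidHom, MulAut.conj_apply]
        calc (n : G) * y * (n : G)⁻¹ * ((n : G) * c * g * ((n : G) * c)⁻¹)
            = (n : G) * (y * (c * g * c⁻¹)) * (n : G)⁻¹ := by group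
          _ = _ := by rw [h1]; group
    rw [← Finset.sum_filter, Nat.card_eq_fintype_card, ← Finset.card_univ,
      Finset.card_eq_sum_card_fiberwise (f := F) fun n _ => hF n]
    refine Finset.sum_le_sum fun D _ => ?_
    rcases (Finset.univ.filter fun n => F n = D).eq_empty_or_nonempty with he | ⟨n₀, hn₀⟩
    · simp [he]
    have hn₀' : F n₀ = D := (Finset.mem_filter.1 hn₀).2
    rw [Nat.card_eq_fintype_card, ← Fintype.card_subtype]
    refine Fintype.card_le_of_injective
      (fun n : {n : ↥N0 // F n = D} => ⟨((n : ↥N0) : G) * (n₀ : G)⁻¹, ?_⟩) ?_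
    · refine ⟨Subgroup.mul_mem _ n.1.2 (Subgroup.inv_mem _ n₀.2), Coprime.mem_normalizer_of_forall ?_⟩
      intro x hx
      rw [← hn₀', hFmap] at hx
      obtain ⟨y, hy, rfl⟩ := hx
      refine n.2.le ?_
      rw [hFmap]
      exact ⟨y, hy, by simp only [MulEquiv.coe_toMonoidHom, MulAut.conj_apply]; group⟩
    · exact fun a b hab => Subtype.ext (Subtype.ext (mul_right_cancel (congrArg Subtype.val hab)))
  have hfinal : (∑ g ∈ Finset.univ.filter (fun g : G => g ∉ center G), Nat.card N0) ≤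
      ∑ D ∈ Δ, (Φ D).card * Nat.card (St D) := by
    refine le_trans (Finset.sum_le_sum fun g hg => horb g (Finset.mem_filter.1 hg).2) ?_
    rw [Finset.sum_comm]
    refine Finset.sum_le_sum fun D _ => ?_
    rw [← Finset.sum_filter, Finset.sum_const, smul_eq_mul]
    exact Nat.mul_le_mul_right _ (Finset.card_le_card fun g hg => (Finset.mem_filter.1 hg).2)
  set m := (Finset.univ.filter fun g : G => g ∉ center G).card with hm
  have hmz : m + Nat.card (center G) = Nat.card G := by
    rw [hm, Nat.card_eq_fintype_card, Nat.card_eq_fintype_card, Fintype.card_subtype, ← Finset.card_univ,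
      add_comm, Finset.card_filter_add_card_filter_not]
  rw [Finset.sum_const, smul_eq_mul] at hfinal
  have hΔne : Δ.Nonempty := by
    obtain ⟨u, hu⟩ := h.exists_omega R
    exact ⟨_, hmemΔ.2 ⟨u, hu, rfl⟩⟩
  have hsum : r * ∑ D ∈ Δ, (Φ D).card * Nat.card (St D) <
      (r + 1) * (Nat.card G * Nat.card (C0 (R : Subgroup G))) := by
    rw [Finset.mul_sum]
    refine lt_of_lt_of_le (Finset.sum_lt_sum_of_nonempty hΔne hb) ?_
    rw [Finset.sum_const, smul_eq_mul]
    exact Nat.mul_le_mul_right _ hΔ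
  set zz := Nat.card (center G)
  set C := Nat.card (C0 (R : Subgroup G))
  have hC : 0 < C := Nat.card_pos
  have h8 : r * (m * (2 * C)) < (r + 1) * (Nat.card G * C) :=
    lt_of_le_of_lt (Nat.mul_le_mul_left r ((Nat.mul_le_mul_left m h2C).trans hfinal)) hsum
  have h9 : 2 * r * m < (r + 1) * Nat.card G := Nat.lt_of_mul_lt_mul_right (a := C) (by linarith)
  have h10 : r ^ 2 * zz ≤ Nat.card G := by
    have h1 := card_bar_mul (R : Subgroup G)
    rw [card_inf_center, hR2] at h1
    have hb2 : Nat.card (bar (R : Subgroup G)) = r ^ 2 := Nat.eq_of_mul_eq_mul_right hzpos h1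
    have h2 := (center G).card_mul_index
    rw [← h2, mul_comm, ← hb2]
    exact Nat.mul_le_mul_left _ (Nat.card_le_card_of_injective _ Subtype.val_injective)
  have h7 : 2 ≤ r := hr.out.two_le
  have hzz : 0 < zz := Nat.card_pos
  have h11 := Nat.mul_lt_mul_of_pos_left h9 hr.out.pos
  nlinarith [Nat.mul_le_mul_right (r * Nat.card G) h7, Nat.mul_le_mul_right (Nat.card G) h7]

/-- A normal `r`-complement of `G ⧸ center G`. -/
theorem exists_complement : ∃ M : Subgroup (G ⧸ center G), M.Normal ∧ ¬ r ∣ Nat.card M ∧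
    ∃ k, M.index = r ^ k := by
  obtain ⟨R⟩ : Nonempty (Sylow r G) := inferInstance
  let f := QuotientGroup.mk' (center G)
  let Rb : Sylow r (G ⧸ center G) := R.mapSurjective (f := f) (QuotientGroup.mk'_surjective _)
  have hRb : (Rb : Subgroup (G ⧸ center G)) = bar (R : Subgroup G) := rfl
  have hN : normalizer ((Rb : Subgroup (G ⧸ center G)) : Set (G ⧸ center G)) ≤
      centralizer ((Rb : Subgroup (G ⧸ center G)) : Set (G ⧸ center G)) := by
    intro q hq
    obtain ⟨n, rfl⟩ := QuotientGroup.mk_surjective q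
    have hnN : n ∈ normalizer ((R : Subgroup G) : Set G) := by
      refine Coprime.mem_normalizer_of_forall fun x hx => ?_
      have h1 := (mem_normalizer_iff.1 hq (x : G ⧸ center G)).1 (mem_map_of_mem _ hx)
      rw [hRb] at h1
      obtain ⟨y, hy, hyx⟩ := h1
      refine SylowTwoSizes.mem_sylow_of_normalizes R ((isElt_of_mem R.2 hx).conj n) ?_
      have hzc : y⁻¹ * (n * x * n⁻¹) ∈ center G := by
        refine QuotientGroup.eq.1 ?_
        rw [QuotientGroup.mk_mul, QuotientGroup.mk_mul, QuotientGroup.mk_inv]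
        exact hyx
      have h2 := mul_mem (le_normalizer hy) (centralizer_le_normalizer _
        (mem_centralizer_iff.2 fun g (_ : g ∈ ((R : Subgroup G) : Set G)) => mem_center_iff.1 hzc g))
      rwa [mul_inv_cancel_left] at h2
    refine mem_centralizer_iff.2 fun y hy => ?_
    rw [SetLike.mem_coe, hRb] at hy
    obtain ⟨x, hx, rfl⟩ := hy
    exact (comm_mem_iff.1 ((h.normalizer_le_C0 hnN).2 x hx)).eq.symm
  refine ⟨(MonoidHom.transferSylow Rb hN).ker, inferInstance,
    MonoidHom.not_dvd_card_ker_transferSylow Rb hN, ?_⟩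
  obtain ⟨k, hk⟩ := IsPGroup.iff_card.1 Rb.2
  exact ⟨k, by rw [(MonoidHom.ker_transferSylow_isComplement' Rb hN).symm.index_eq_card, hk]⟩

end ConstHyp

end Cfsg.Agent.ItoSizes
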