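import Cfsg.Agent.Lib.ItoSizes.FBasic
import Cfsg.Agent.Lib.FPF.Kernel

/-!
# Three class sizes: Sylow subgroups outside a mixed centraliser, conjugacy of mixed centralisers
-/

open Subgroup
open scoped commutatorElement

namespace Cfsg.Agent.ItoSizes

open ThreeSizes

set_option linter.unusedSectionVars false

variable {G : Type*} [Group G] [Finite G]

local notation "cent" x:max => Subgroup.centralizer ({x} : Set _)

theorem exists_omega {r : ℕ} [hr : Fact r.Prime] (R : Sylow r G) {w : G} (hw : IsElt r w)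
    (hwz : w ∉ center G) : ∃ u, Omega R u := by
  obtain ⟨u, hu⟩ := exists_z2 R.2 le_rfl le_normalizer fun hle => by
    obtain ⟨c, hc⟩ := exists_conj_mem (card_sylow R) (isPGroup_zpowers hw)
    exact hwz (conj_mem_center.1 (hle (hc w (mem_zpowers w))))
  exact ⟨u, hu⟩

/-- A proper subgroup of an `r`-group is properly normalised. -/
theorem exists_normalizing {r : ℕ} [Fact r.Prime] {U R : Subgroup G} (hR : IsPGroup r R) (h : U < R) :
    ∃ n ∈ R, n ∉ U ∧ n ∈ normalizer (U : Set G) := by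
  haveI := hR.isNilpotent
  have hlt : U.subgroupOf R < ⊤ :=
    lt_top_iff_ne_top.2 fun e => h.ne (le_antisymm h.le (subgroupOf_eq_top.1 e))
  obtain ⟨n, hn, hnU⟩ := SetLike.exists_of_lt (Group.normalizerCondition_of_isNilpotent _ hlt)
  refine ⟨n, n.2, fun e => hnU (mem_subgroupOf.2 e), Coprime.mem_normalizer_of_forall fun x hx => ?_⟩
  exact mem_subgroupOf.1 ((mem_normalizer_iff.1 hn ⟨x, h.le hx⟩).1 (mem_subgroupOf.2 hx))

theorem conj_part {c a : G} {r : ℕ} [Fact r.Prime] :
    cp r (cent (c * a * c⁻¹)) = cp r (cent a) := part_const_of_eq r (index_conj c a)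

variable {n₁ n₂ : ℕ} (h : FHyp G n₁ n₂) {r : ℕ} [hr : Fact r.Prime]
include h

/-- `|R| = r |D|` for a central element `u` of `R` modulo the centre, outside whose centraliser `R` sticks. -/
theorem FHyp.card_bad {R : Sylow r G} {u : G} (hu : Omega R u) (hm : Mixed u)
    (hne : ¬ (R : Subgroup G) ≤ cent u) :
    Nat.card R = r * Nat.card ↥((R : Subgroup G) ⊓ cent u) := by
  obtain ⟨K, hK⟩ := h.exists_coPart hm r
  refine card_eq_prime_mul R.2 hu.2.2.1 hu.2.2.2 hne ?_ (fun k hk => ((hK k).1 hk).2)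
    (fun x hx k hk => (h.mixed_spec hm).1 x hx.2 k ((hK k).1 hk).1) ?_ ?_
  · intro x hx
    refine Coprime.mem_normalizer_of_forall fun k hk => (hK _).2 ⟨?_, not_dvd_conj ((hK k).1 hk).2⟩
    exact (mem_normalizer_iff.1 (normalizer_of_mod (hu.2.2.2 x hx)) k).1 ((hK k).1 hk).1
  · intro x _ hxu k hk hc
    by_contra hkz
    exact hxu (h.cent_eq hm ((hK k).1 hk).1 hkz ▸ mem_cent.2 hc.eq)
  · intro hle
    obtain ⟨w, hw, hwz, hwr⟩ := hm.2 r hr.out
    exact hwz (hle ((hK w).2 ⟨hw, hwr⟩))

/-- Elements of `R` outside `D` have order `r` modulo the centre. -/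
theorem FHyp.outside {R : Sylow r G} {u : G} (hu : Omega R u) (hm : Mixed u) (ht : Tame G r) {x : G}
    (hx : x ∈ (R : Subgroup G)) (hxu : x ∉ cent u) : Mixed x ∧ x ^ r ∈ center G := by
  have hxz : x ∉ center G := fun hz => hxu (center_le_cent u hz)
  have hmx := ht x (isElt_of_mem R.2 hx) hxz
  refine ⟨hmx, by_contra fun hp => hxu ?_⟩
  have hD := (normal_of_index R.2 inf_le_left (h.card_bad hu hm fun hle => hxu (hle hx))).2 x hx
  exact h.cent_eq_cent hm hmx hD.2 (pow_mem (self_mem x) r) hp ▸ self_mem x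

/-- The small lemma. -/
theorem FHyp.small {R : Sylow r G} {u : G} (hu : Omega R u) (hm : Mixed u) (ht : Tame G r) {x : G}
    (hx : x ∈ (R : Subgroup G)) (hxu : x ∉ cent u) {E : Subgroup G}
    (hE : E ≤ (R : Subgroup G) ⊓ cent u) (hEx : ∀ d ∈ E, ⁅d, x⁆ ∈ center G) :
    Nat.card E ≤ r * cp r (center G) := by
  obtain ⟨hmx, hxr⟩ := h.outside hu hm ht hx hxu
  have hEp : IsPGroup r E := R.2.to_le (hE.trans inf_le_left)
  have hinf : E ⊓ cent x ≤ center G := fun d hd => by_contra fun hdz =>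
    hxu (h.cent_eq_cent hm hmx (hE hd.1).2 hd.2 hdz ▸ self_mem x)
  by_cases hEc : E ≤ cent x
  · exact le_mul_of_one_le_of_le hr.out.one_le (card_le_cp hEp ((le_inf le_rfl hEc).trans hinf))
  obtain ⟨K, hK⟩ := h.exists_coPart hmx r
  rw [card_eq_prime_mul hEp (K := K) hxr hEx hEc (fun d hd => Coprime.mem_normalizer_of_forall
      fun k hk => (hK _).2 ⟨(mem_normalizer_iff.1 (normalizer_of_mod (hEx d hd)) k).1 ((hK k).1 hk).1,
        not_dvd_conj ((hK k).1 hk).2⟩) (fun k hk => ((hK k).1 hk).2)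
    (fun d hd k _ => (mem_center_iff.1 (hinf hd) k).symm) ?_ ?_]
  · exact Nat.mul_le_mul_left r (card_le_cp (hEp.to_le inf_le_left) hinf)
  · intro d _ hdx k hk hc
    by_contra hkz
    exact hdx (h.cent_eq hmx ((hK k).1 hk).1 hkz ▸ mem_cent.2 hc.eq)
  · intro hle
    obtain ⟨w, hw, hwz, hwr⟩ := hmx.2 r hr.out
    exact hwz (hle ((hK w).2 ⟨hw, hwr⟩))

/-- The `r`-part of another mixed centraliser meeting `R` is small. -/
theorem FHyp.other_le {R : Sylow r G} {u : G} (hu : Omega R u) (hm : Mixed u)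
    (hne : ¬ (R : Subgroup G) ≤ cent u) {b : G} (hb : Mixed b) (hbu : cent b ≠ cent u)
    {U : Subgroup G} (hUR : U ≤ (R : Subgroup G)) (hUb : U ≤ cent b) :
    Nat.card U ≤ r * cp r (center G) := by
  set D := (R : Subgroup G) ⊓ cent u with hD
  have hc := h.card_bad hu hm hne
  have h1 := card_sup_mul (hUR.trans (normal_of_index R.2 inf_le_left hc).1 : U ≤ normalizer (D : Set G))
  have h2 : Nat.card ↥(D ⊓ U) ≤ cp r (center G) := card_le_cp (R.2.to_le (inf_le_right.trans hUR))
    fun d hd => by_contra fun hdz => hbu (h.cent_eq_cent hb hm (hUb hd.2) hd.1.2 hdz)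
  have h3 : Nat.card ↥(D ⊔ U) ≤ r * Nat.card D := hc ▸ card_le_of_le (sup_le inf_le_left hUR)
  have h4 := Nat.mul_le_mul h3 h2
  rw [h1] at h4
  have h5 : 0 < Nat.card D := Nat.card_pos
  exact Nat.le_of_mul_le_mul_left (by linarith) h5

/-- The relevant part of non-conjugate mixed centralisers of equal index. -/
theorem FHyp.part_eq_of_not_conj (ht : Tame G r) {a b : G} (ha : Mixed a) (hb : Mixed b)
    (he : (cent a).index = (cent b).index) (hno : ∀ c : G, cent (c * a * c⁻¹) ≠ cent b)
    (hlt : cp r (center G) < cp r (cent a)) :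
    cp r (cent a) = r * cp r (center G) ∧
      ∃ c x : G, Mixed c ∧ (cent c).index = (cent a).index ∧ IsElt r x ∧
        x ∈ normalizer (cent c : Set G) ∧ x ∉ cent c := by
  have hab : cp r (cent a) = cp r (cent b) := part_const_of_eq r he
  obtain ⟨Ua, hUa, hUap, hUac, -⟩ := h.exists_part ha r
  obtain ⟨Ub, hUb, hUbp, hUbc, -⟩ := h.exists_part hb r
  obtain ⟨R⟩ : Nonempty (Sylow r G) := inferInstance
  obtain ⟨g, hg⟩ := exists_conj_mem (card_sylow R) hUap
  obtain ⟨k, hk⟩ := exists_conj_mem (card_sylow R) hUbp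
  set a' := g * a * g⁻¹ with ha'
  set b' := k * b * k⁻¹ with hb'
  have hnc : cent a' ≠ cent b' := fun e => hno (k⁻¹ * g) (by
    rw [show k⁻¹ * g * a * (k⁻¹ * g)⁻¹ = k⁻¹ * a' * k⁻¹⁻¹ by rw [ha']; group, cent_conj, e, ← cent_conj,
      show k⁻¹ * b' * k⁻¹⁻¹ = b by rw [hb']; group])
  obtain ⟨v, -, hvz, hvr⟩ := exists_noncentral hlt
  obtain ⟨u, hu⟩ := exists_omega R hvr hvz
  have hm : Mixed u := ht u (isElt_of_mem R.2 hu.1) hu.2.1
  have hexU : ∀ c : G, Mixed c → cp r (cent c) = cp r (cent a) → ∀ U : Subgroup G, U ≤ (R : Subgroup G) →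
      U ≤ cent c → Nat.card U = cp r (cent a) → Nat.card U = Nat.card R → cent c = cent u := by
    intro c hc _ U hUR hUc _ hcard
    obtain rfl := eq_of_le_of_card_ge hUR hcard.ge
    exact h.cent_eq_cent hc hm (hUc hu.1) (self_mem u) hu.2.1
  set U1 := Ua.map (MulAut.conj g).toMonoidHom with hU1
  set U2 := Ub.map (MulAut.conj k).toMonoidHom with hU2
  have hU1R : U1 ≤ (R : Subgroup G) := by rintro _ ⟨x, hx, rfl⟩; exact hg x hx
  have hU2R : U2 ≤ (R : Subgroup G) := by rintro _ ⟨x, hx, rfl⟩; exact hk x hx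
  have hU1c : U1 ≤ cent a' := by rw [ha', cent_conj]; exact map_mono hUa
  have hU2c : U2 ≤ cent b' := by rw [hb', cent_conj]; exact map_mono hUb
  have hc1 : Nat.card U1 = cp r (cent a) := by
    rw [hU1, card_map_of_injective (MulAut.conj g).injective, hUac]
  have hc2 : Nat.card U2 = cp r (cent a) := by
    rw [hU2, card_map_of_injective (MulAut.conj k).injective, hUbc, hab]
  have hRu : ¬ (R : Subgroup G) ≤ cent u := by
    intro hle
    -- then `cent a'` and `cent b'` would both be `cent u`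
    have key : ∀ c : G, Mixed c → ∀ U : Subgroup G, U ≤ (R : Subgroup G) → U ≤ cent c →
        cp r (center G) < Nat.card U → cent c = cent u := by
      intro c hc U hUR hUc hU
      obtain ⟨d, hd, hdz⟩ := SetLike.not_le_iff_exists.1 (show ¬ U ≤ center G from fun hle' =>
        absurd (card_le_cp (R.2.to_le hUR) hle') (not_le.2 hU))
      exact h.cent_eq_cent hc hm (hUc hd) (hle (hUR hd)) hdz
    exact hnc ((key a' (ha.conj g) U1 hU1R hU1c (hc1 ▸ hlt)).trans
      (key b' (hb.conj k) U2 hU2R hU2c (hc2 ▸ hlt)).symm)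
  obtain ⟨c, hc, hci, U, hUR, hUc, hUcard, hcu⟩ : ∃ c : G, Mixed c ∧ (cent c).index = (cent a).index ∧
      ∃ U : Subgroup G, U ≤ (R : Subgroup G) ∧ U ≤ cent c ∧ Nat.card U = cp r (cent a) ∧
        cent c ≠ cent u := by
    by_cases e : cent a' = cent u
    · exact ⟨b', hb.conj k, by rw [hb', index_conj, he], U2, hU2R, hU2c, hc2,
        fun e' => hnc (e.trans e'.symm)⟩
    · exact ⟨a', ha.conj g, by rw [ha', index_conj], U1, hU1R, hU1c, hc1, e⟩
  have hle := h.other_le hu hm hRu hc hcu hUR hUc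
  have hge : r * cp r (center G) ≤ Nat.card U := by
    obtain ⟨i, hi⟩ : ∃ i, Nat.card U = r ^ i := ⟨_, hUcard⟩
    have hlt' : cp r (center G) < r ^ i := by rw [← hi, hUcard]; exact hlt
    rw [hi]; unfold cp at hlt' ⊢
    rw [← pow_succ']
    exact Nat.pow_le_pow_right hr.out.pos ((Nat.pow_lt_pow_iff_right hr.out.one_lt).1 hlt')
  refine ⟨hUcard ▸ le_antisymm hle hge, ?_⟩
  have hUlt : U < (R : Subgroup G) := lt_of_le_of_ne hUR fun e => hcu (by
    exact hexU c hc (part_const_of_eq r hci) U hUR hUc hUcard (by rw [e]))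
  obtain ⟨x, hxR, hxU, hxn⟩ := exists_normalizing R.2 hUlt
  refine ⟨c, x, hc, hci, isElt_of_mem R.2 hxR, ?_, fun hxc => ?_⟩
  · obtain ⟨d, hd, hdz⟩ := SetLike.not_le_iff_exists.1 (show ¬ U ≤ center G from fun hle' =>
      absurd (card_le_cp (R.2.to_le hUR) hle') (not_le.2 (hUcard ▸ hlt)))
    have hd' : x * d * x⁻¹ ∈ U := (mem_normalizer_iff.1 hxn d).1 hd
    exact normalizer_of_fix (h.cent_eq hc (hUc hd) hdz)
      (h.cent_eq hc (hUc hd') fun hz => hdz (conj_mem_center.1 hz))
  · have h1 := card_le_cp (R.2.to_le (sup_le hUR (zpowers_le.2 hxR))) (sup_le hUc (zpowers_le.2 hxc))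
    rw [part_const_of_eq r hci] at h1
    exact hxU ((eq_of_le_of_card_ge le_sup_left (h1.trans hUcard.ge)).ge (mem_sup_right (mem_zpowers x)))

omit hr in
/-- An `r`-element acting on an abelian centraliser with a part of order `s` forces `r ∣ s - 1`. -/
theorem FHyp.dvd_sub_one {r s : ℕ} (hr : r.Prime) (hs : s.Prime) (hrs : r ≠ s) {c x : G} (hc : Mixed c)
    (hx : IsElt r x) (hxn : x ∈ normalizer (cent c : Set G)) (hxc : x ∉ cent c)
    (hcs : cp s (cent c) = s * cp s (center G)) : r ∣ s - 1 := by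
  haveI := Fact.mk hs
  haveI := Fact.mk hr
  obtain ⟨U, hU, hUp, hUc, hUall⟩ := h.exists_part hc s
  have hUZ : Nat.card ↥(U ⊓ center G) = cp s (center G) := by
    refine le_antisymm (card_inf_center_le hUp) ?_
    obtain ⟨V, hV, hVp, hVc⟩ := exists_le_card_cp s (center G)
    exact hVc ▸ card_le_of_le (le_inf
      (fun v hv => hUall v (center_le_cent c (hV hv)) (isElt_of_mem hVp hv)) hV)
  have hV : Nat.card (bar U) = s := by
    have h1 := card_bar_mul U
    rw [hUZ, hUc, hcs] at h1
    exact Nat.eq_of_mul_eq_mul_right (cp_pos _) h1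
  have hxU : x ∈ normalizer (U : Set G) := Coprime.mem_normalizer_of_forall fun d hd =>
    hUall _ ((mem_normalizer_iff.1 hxn d).1 (hU hd)) ((isElt_of_mem hUp hd).conj x)
  have hxV : (x : G ⧸ center G) ∈ normalizer (bar U : Set (G ⧸ center G)) := by
    refine Coprime.mem_normalizer_of_forall ?_
    rintro _ ⟨d, hd, rfl⟩
    exact ⟨_, (mem_normalizer_iff.1 hxU d).1 hd, by simp⟩
  set σ := (bar U).normalizerMonoidHom ⟨_, hxV⟩ with hσ
  have hσ1 : σ ≠ 1 := by
    intro e
    obtain ⟨d, hd, hdz⟩ := SetLike.not_le_iff_exists.1 (show ¬ U ≤ center G from fun hle => by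
      have := card_le_cp hUp hle
      rw [hUc, hcs] at this
      have := cp_pos (q := s) (center G); have := hs.two_le
      nlinarith)
    have h1 := congrArg Subtype.val (DFunLike.congr_fun e ⟨_, mem_map_of_mem _ hd⟩)
    have h2 : Commute (x : G ⧸ center G) d := mul_inv_eq_iff_eq_mul.1 h1
    have h3 := commute_of_mod hs (isElt_of_mem hUp hd) (hx.not_dvd hr hs hrs) (comm_mem_iff.2 h2)
    exact hxc (h.cent_eq hc (hU hd) hdz ▸ mem_cent.2 h3.eq.symm)
  have hσr : orderOf σ ∣ orderOf x :=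
    (orderOf_map_dvd ((bar U).normalizerMonoidHom) ⟨_, hxV⟩).trans
      ((Subgroup.orderOf_mk _ hxV).dvd.trans (orderOf_map_dvd (QuotientGroup.mk' (center G)) x))
  obtain ⟨i, hi⟩ := hx
  rw [hi] at hσr
  obtain ⟨j, -, hj⟩ := (Nat.dvd_prime_pow hr).1 hσr
  have hj0 : j ≠ 0 := by rintro rfl; exact hσ1 (orderOf_eq_one_iff.1 (by simpa using hj))
  haveI : IsCyclic (bar U) := isCyclic_of_prime_card hV
  have h4 := (hj ▸ dvd_pow_self r hj0 : r ∣ orderOf σ).trans (orderOf_dvd_natCard σ)
  rwa [IsCyclic.card_mulAut, hV, Nat.totient_prime hs] at h4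

omit hr in
/-- Mixed centralisers of the same index are conjugate. -/
theorem FHyp.conj_of_index_eq {r s : ℕ} (hr : r.Prime) (hs : s.Prime) (hrs : r ≠ s) (htr : Tame G r)
    (hts : Tame G s) {a b : G} (ha : Mixed a) (hb : Mixed b) (he : (cent a).index = (cent b).index)
    (har : cp r (center G) < cp r (cent a)) (has : cp s (center G) < cp s (cent a)) :
    ∃ c : G, cent (c * a * c⁻¹) = cent b := by
  by_contra hno
  push Not at hno
  haveI := Fact.mk hr
  haveI := Fact.mk hs
  obtain ⟨har', c, x, hc, hci, hx, hxn, hxc⟩ := h.part_eq_of_not_conj htr ha hb he hno har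
  obtain ⟨has', c', x', hc', hci', hx', hxn', hxc'⟩ := h.part_eq_of_not_conj hts ha hb he hno has
  have h1 := h.dvd_sub_one hr hs hrs hc hx hxn hxc ((part_const_of_eq s hci).trans has')
  have h2 := h.dvd_sub_one hs hr hrs.symm hc' hx' hxn' hxc' ((part_const_of_eq r hci').trans har')
  have := hr.two_le; have := hs.two_le
  have := Nat.le_of_dvd (by omega) h1
  have := Nat.le_of_dvd (by omega) h2
  omega

omit hr in
/-- A self-normalising mixed centraliser forces solvability. -/
theorem FHyp.isSolvable_of_selfNormalizing {a : G} (ha : Mixed a)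
    (hN : normalizer (cent a : Set G) ≤ cent a) : Group.IsSolvable G := by
  classical
  have key : ∀ q : ℕ, q.Prime → cp q (center G) < cp q (cent a) →
      ∃ K : Subgroup G, K.Normal ∧ ¬ q ∣ Nat.card K ∧ ∃ i, K.index = q ^ i := by
    intro q hq hlt
    haveI := Fact.mk hq
    obtain ⟨U, hU, hUp, hUc, hUall⟩ := h.exists_part ha q
    obtain ⟨R, hUR⟩ := hUp.exists_le_sylow
    obtain ⟨v, hv, hvz, hvq⟩ := exists_noncentral hlt
    have hvU := hUall v hv hvq
    have hNU : normalizer (U : Set G) ≤ cent a := fun n hn => hN (normalizer_of_fix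
      (h.cent_eq ha hv hvz) (h.cent_eq ha (hU ((mem_normalizer_iff.1 hn v).1 hvU))
        fun hz => hvz (conj_mem_center.1 hz)))
    have hRU : (R : Subgroup G) = U := by
      by_contra hne
      obtain ⟨n, hn, hnU, hnN⟩ := exists_normalizing R.2 (lt_of_le_of_ne hUR (Ne.symm hne))
      exact hnU (hUall n (hNU hnN) (isElt_of_mem R.2 hn))
    have hNC : normalizer ((R : Subgroup G) : Set G) ≤ centralizer ((R : Subgroup G) : Set G) := by
      rw [hRU]
      exact fun n hn => mem_centralizer_iff.2 fun y hy => ((h.mixed_spec ha).1 y (hU hy) n (hNU hn)).eq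
    obtain ⟨i, hi⟩ := IsPGroup.iff_card.1 R.2
    exact ⟨_, inferInstance, MonoidHom.not_dvd_card_ker_transferSylow R hNC, i, by
      rw [(MonoidHom.ker_transferSylow_isComplement' R hNC).symm.index_eq_card, hi]⟩
  have step : ∀ t : Finset ℕ, (∀ q ∈ t, q.Prime ∧ cp q (center G) < cp q (cent a)) →
      ∃ (K : Subgroup G) (_ : K.Normal), Group.IsSolvable (G ⧸ K) ∧ ∀ q ∈ t, ¬ q ∣ Nat.card K := by
    intro t
    induction t using Finset.induction_on with
    | empty =>
      intro _
      haveI : Subsingleton (G ⧸ (⊤ : Subgroup G)) := QuotientGroup.subsingleton_quotient_top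
      exact ⟨⊤, inferInstance, inferInstance, by simp⟩
    | insert q t _ ih =>
      intro ht
      obtain ⟨M, hM, hsol, hMs⟩ := ih fun u hu => ht u (Finset.mem_insert_of_mem hu)
      obtain ⟨hq, hlt⟩ := ht q (Finset.mem_insert_self q t)
      obtain ⟨M', hM', hM'q, i, hi⟩ := key q hq hlt
      haveI := hM'
      haveI := hM
      haveI := hsol
      haveI := isSolvable_quotient_of_index M' hq hi
      refine ⟨M' ⊓ M, inferInstance, isSolvable_quotient_inf M' M, fun u hu hd => ?_⟩
      rcases Finset.mem_insert.1 hu with rfl | hu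
      · exact hM'q (hd.trans (card_dvd_of_le inf_le_left))
      · exact hMs u hu (hd.trans (card_dvd_of_le inf_le_right))
  obtain ⟨K, hKn, hsol, hKq⟩ := step
    ((Nat.card G).primeFactors.filter fun q => cp q (center G) < cp q (cent a))
    fun q hq => ⟨Nat.prime_of_mem_primeFactors (Finset.mem_filter.1 hq).1, (Finset.mem_filter.1 hq).2⟩
  haveI := hKn
  haveI := hsol
  have hKA : ∀ k ∈ K, k ∈ cent a → k ∈ center G := fun k hk hka => by
    by_contra hkz
    obtain ⟨q, hq, y, hy, hyz, hyq⟩ := exists_primary hkz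
    haveI := Fact.mk hq
    have hyK : y ∈ K := zpowers_le.2 hk hy
    have hlt : cp q (center G) < cp q (cent a) :=
      cp_center_lt hyz hyq (center_le_cent a) (zpowers_le.2 hka hy)
    have hd : q ∣ orderOf y := by
      obtain ⟨i, hi⟩ := hyq
      rcases i with _ | i
      · rw [pow_zero] at hi
        exact absurd (by rw [orderOf_eq_one_iff.1 hi]; exact one_mem _) hyz
      · exact hi ▸ dvd_pow_self q (Nat.succ_ne_zero i)
    have hdK : q ∣ Nat.card K :=
      hd.trans ((Subgroup.orderOf_mk (H := K) y hyK).symm.dvd.trans (orderOf_dvd_natCard _))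
    exact hKq q (Finset.mem_filter.2 ⟨Nat.mem_primeFactors.2
      ⟨hq, hdK.trans (card_subgroup_dvd_card K), Nat.card_pos.ne'⟩, hlt⟩) hdK
  -- a fixed-point-free element
  obtain ⟨v, hva, hvz⟩ : ∃ v ∈ cent a, v ∉ center G := ⟨a, self_mem a, ha.1⟩
  have hA : zpowers (v : G ⧸ center G) ≠ ⊥ := by
    rw [Ne, zpowers_eq_bot]; exact fun e => hvz (mk_eq_one.1 e)
  haveI : (bar K).Normal := hKn.map _ (QuotientGroup.mk'_surjective _)
  have hfpf : Frobenius.FPF (zpowers (v : G ⧸ center G)) (bar K) := by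
    rintro _ ⟨i, rfl⟩ hne _ ⟨k, hk, rfl⟩ hc
    have hne' : v ^ i ∉ center G := fun hz => hne (by
      simp only [← QuotientGroup.mk_zpow]; exact mk_eq_one.2 hz)
    have h1 : ⁅k, v ^ i⁆ ∈ center G := comm_mem_iff.2 (by
      simp only [← QuotientGroup.mk_zpow] at hc; exact hc.symm)
    have h2 := normalizer_of_mod h1
    rw [h.cent_eq ha (zpow_mem hva i) hne'] at h2
    exact mk_eq_one.2 (hKA k hk (hN h2))
  haveI : Group.IsNilpotent (bar K) := FPF.isNilpotent_of_fpf_subgroup hA hfpf
  haveI : Group.IsSolvable ((G ⧸ center G) ⧸ bar K) := by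
    refine Group.isSolvable_of_surjective
      (f := QuotientGroup.map K (bar K) (QuotientGroup.mk' (center G)) (le_comap_map _ _)) ?_
    intro x
    induction x using QuotientGroup.induction_on with
    | H y =>
      obtain ⟨g, rfl⟩ := QuotientGroup.mk_surjective y
      exact ⟨(g : G ⧸ K), rfl⟩
  exact isSolvable_of_quotient_center
    ((Solvable.isSolvable_subgroup_quotient_iff (bar K)).2 ⟨inferInstance, inferInstance⟩)

omit hr in
/-- No primary elements. -/
theorem FHyp.isSolvable_of_all_mixed (hall : ∀ g : G, g ∉ center G → Mixed g) : Group.IsSolvable G := by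
  by_contra hns
  obtain ⟨a, ha⟩ := h.ex1
  obtain ⟨b, hb⟩ := h.ex2
  have hma := hall a (h.noncentral (Or.inr ha))
  have hmb := hall b (h.noncentral (Or.inl hb))
  have ht : ∀ r : ℕ, Tame G r := fun r w _ hw => hall w hw
  have hgrow : ∀ c : G, Mixed c → 2 * (normalizer (cent c : Set G)).index ≤ (cent c).index := by
    intro c hc
    rw [← relIndex_mul_index (le_normalizer (H := cent c))]
    refine Nat.mul_le_mul_right _ ?_
    have h1 : (cent c).relIndex (normalizer (cent c : Set G)) ≠ 0 := index_ne_zero_of_finite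
    have h2 : (cent c).relIndex (normalizer (cent c : Set G)) ≠ 1 :=
      fun e => hns (h.isSolvable_of_selfNormalizing hc (relIndex_eq_one.1 e))
    omega
  have key : ∀ c : G, Mixed c →
      2 * {g : G | g ∉ center G ∧ ∃ k : G, k * g * k⁻¹ ∈ cent c}.ncard +
        (cent c).index * Nat.card (center G) ≤ Nat.card G := by
    intro c hc
    have h1 := ncard_cover_le (center_le_cent c) (le_refl (normalizer (cent c : Set G)))
    have h2 := hgrow c hc
    have h3 : Nat.card (center G) ≤ Nat.card (cent c) := card_le_of_le (center_le_cent c)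
    obtain ⟨e, he⟩ := Nat.exists_eq_add_of_le h3
    rw [he, mul_add] at h1
    have h4 : {g : G | g ∉ center G ∧ ∃ k : G, k * g * k⁻¹ ∈ cent c}.ncard ≤
        (normalizer (cent c : Set G)).index * e := by omega
    have h5 := Nat.mul_le_mul_right e h2
    have h6 : Nat.card G = (cent c).index * Nat.card (center G) + (cent c).index * e := by
      rw [← mul_add, ← he, mul_comm, (cent c).card_mul_index]
    linarith
  have hcov : {g : G | g ∉ center G} ⊆
      {g | g ∉ center G ∧ ∃ k : G, k * g * k⁻¹ ∈ cent a} ∪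
        {g | g ∉ center G ∧ ∃ k : G, k * g * k⁻¹ ∈ cent b} := by
    intro g hg
    have hmg := hall g hg
    obtain ⟨r, s, hr, hs, hrs, h1, h2⟩ := hmg.exists_two_primes
    have fin : ∀ c : G, Mixed c → (cent g).index = (cent c).index →
        g ∈ {g | g ∉ center G ∧ ∃ k : G, k * g * k⁻¹ ∈ cent c} := fun c hc e => by
      obtain ⟨k, hk⟩ := h.conj_of_index_eq hr hs hrs (ht r) (ht s) hmg hc e h1 h2
      exact ⟨hg, k, hk ▸ self_mem _⟩
    rcases h.cases hg with e | e
    · exact Or.inr (fin b hmb (e.trans hb.symm))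
    · exact Or.inl (fin a hma (e.trans ha.symm))
  have h1 := (Set.ncard_le_ncard hcov (Set.toFinite _)).trans (Set.ncard_union_le _ _)
  have h2 : {g : G | g ∉ center G}.ncard + Nat.card (center G) = Nat.card G := by
    have := Set.ncard_compl_add_ncard (center G : Set G) (Set.toFinite _) (Set.toFinite _)
    rwa [← Nat.card_coe_set_eq (center G : Set G)] at this
  have h3 := key a hma
  have h4 := key b hmb
  rw [ha] at h3
  rw [hb] at h4
  have h5 : 0 < Nat.card (center G) := Nat.card_pos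
  have h6 := Nat.mul_le_mul_right (Nat.card (center G)) (show 2 ≤ n₁ by have := h.h12; have := h.h2; omega)
  have h7 := Nat.mul_le_mul_right (Nat.card (center G)) (show 2 ≤ n₂ by have := h.h2; omega)
  linarith

end Cfsg.Agent.ItoSizes
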