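import Cfsg.Agent.Lib.ItoSizes.NonF

/-!
# Three class sizes, pairwise incomparable centralisers: basic facts

A non-central `g` is *primary* at `p` when all `p'`-elements of its centraliser are central and
*mixed* when its centraliser has non-central elements of two different primes; mixed centralisers
are abelian and meet only in the centre.
-/

open Subgroup
open scoped commutatorElement

namespace Cfsg.Agent.ItoSizes

open ThreeSizes

set_option linter.unusedSectionVars false

variable {G : Type*} [Group G] [Finite G]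

local notation "cent" x:max => Subgroup.centralizer ({x} : Set _)

/-- Three class sizes, no two non-central centralisers comparable, three primes dividing `|G : Z|`. -/
structure FHyp (G : Type*) [Group G] (n₁ n₂ : ℕ) : Prop extends Hyp3 G n₁ n₂ where
  hF : ∀ a b : G, a ∉ center G → b ∉ center G → cent a ≤ cent b → cent a = cent b
  three : ∀ p q : ℕ, p.Prime → q.Prime →
    ∃ r : ℕ, r.Prime ∧ r ≠ p ∧ r ≠ q ∧ ∃ w : G, IsElt r w ∧ w ∉ center G

/-- The centraliser has non-central elements of two primes. -/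
def Mixed (g : G) : Prop :=
  g ∉ center G ∧ ∀ r : ℕ, r.Prime → ∃ w ∈ cent g, w ∉ center G ∧ ¬ r ∣ orderOf w

/-- All `p'`-elements of the centraliser are central. -/
def Primary (p : ℕ) (g : G) : Prop :=
  g ∉ center G ∧ p.Prime ∧ ∀ w ∈ cent g, ¬ p ∣ orderOf w → w ∈ center G

/-- All non-central `r`-elements are mixed. -/
def Tame (G : Type*) [Group G] (r : ℕ) : Prop := ∀ w : G, IsElt r w → w ∉ center G → Mixed w

theorem mixed_or_primary {g : G} (hg : g ∉ center G) : Mixed g ∨ ∃ p, Primary p g := by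
  by_cases h : ∀ r : ℕ, r.Prime → ∃ w ∈ cent g, w ∉ center G ∧ ¬ r ∣ orderOf w
  · exact Or.inl ⟨hg, h⟩
  · push Not at h
    obtain ⟨p, hp, h⟩ := h
    exact Or.inr ⟨p, hg, hp, fun w hw hwp => by_contra fun hwz => hwp (h w hw hwz)⟩

theorem Mixed.noncentral {g : G} (hg : Mixed g) : g ∉ center G := hg.1

theorem Mixed.congr {a b : G} (ha : Mixed a) (hb : b ∉ center G) (e : cent b = cent a) : Mixed b :=
  ⟨hb, fun r hr => by rw [e]; exact ha.2 r hr⟩

theorem Mixed.conj {a : G} (ha : Mixed a) (c : G) : Mixed (c * a * c⁻¹) := by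
  refine ⟨fun h => ha.1 (conj_mem_center.1 h), fun r hr => ?_⟩
  obtain ⟨w, hw, hwz, hwr⟩ := ha.2 r hr
  exact ⟨c * w * c⁻¹, by rw [cent_conj]; exact ⟨w, hw, rfl⟩, fun h => hwz (conj_mem_center.1 h),
    not_dvd_conj hwr⟩

/-- Two primes with non-central elements. -/
theorem Mixed.exists_prime {g : G} (hg : Mixed g) {p : ℕ} (hp : p.Prime) :
    ∃ r : ℕ, r.Prime ∧ r ≠ p ∧ cp r (center G) < cp r (cent g) := by
  obtain ⟨w, hw, hwz, hwp⟩ := hg.2 p hp
  obtain ⟨r, hr, v, hv, hvz, hvr⟩ := exists_primary hwz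
  haveI := Fact.mk hr
  refine ⟨r, hr, ?_, cp_center_lt hvz hvr (center_le_cent g) (zpowers_le.2 hw hv)⟩
  rintro rfl
  exact hvz (by rw [eq_one_of_isElt hvr (not_dvd_of_zpowers hv hwp)]; exact one_mem _)

theorem Mixed.exists_two_primes {g : G} (hg : Mixed g) : ∃ r s : ℕ, r.Prime ∧ s.Prime ∧ r ≠ s ∧
    cp r (center G) < cp r (cent g) ∧ cp s (center G) < cp s (cent g) := by
  obtain ⟨r, hr, -, hr'⟩ := hg.exists_prime Nat.prime_two
  obtain ⟨s, hs, hsr, hs'⟩ := hg.exists_prime hr
  exact ⟨r, s, hr, hs, hsr.symm, hr', hs'⟩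

variable {n₁ n₂ : ℕ} (h : FHyp G n₁ n₂)
include h

/-- All elements of coprime order share the centraliser of a primary element. -/
theorem FHyp.cent_eq_of_coprime {g w : G} {q : ℕ} (hq : q.Prime) (hg : g ∉ center G) (hgq : IsElt q g)
    (hw : w ∈ cent g) (hwz : w ∉ center G) (hwq : ¬ q ∣ orderOf w) : cent w = cent g := by
  have he := cent_mul (mem_cent.1 hw).symm (IsElt.coprime_order hq hgq hwq)
  have hz : g * w ∉ center G := fun hz => hg (mem_center_of_cent.2 (top_le_iff.1 (by
    rw [← mem_center_of_cent.1 hz, he]; exact inf_le_left)))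
  have e1 := h.hF _ _ hz hg (he.le.trans inf_le_left)
  have e2 : cent g ≤ cent w := by rw [← e1, he]; exact inf_le_right
  exact (h.hF g w hg hwz e2).symm

/-- Mixed centralisers are abelian and meet only in the centre. -/
theorem FHyp.mixed_spec {g : G} (hg : Mixed g) :
    (∀ a ∈ cent g, ∀ b ∈ cent g, Commute a b) ∧ ∀ v ∈ cent g, v ∉ center G → cent v = cent g := by
  obtain ⟨q, hq, g0, hg0, hg0z, hg0q⟩ := exists_primary hg.1
  have e0 : cent g = cent g0 := h.hF g g0 hg.1 hg0z (cent_le_of_mem_zpowers hg0)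
  obtain ⟨w1, hw1, hw1z, hw1q⟩ := hg.2 q hq
  obtain ⟨s, hs, w0, hw0, hw0z, hw0s⟩ := exists_primary hw1z
  haveI := Fact.mk hs
  haveI := Fact.mk hq
  have e1 : cent w1 = cent g := (h.cent_eq_of_coprime hq hg0z hg0q (e0 ▸ hw1) hw1z hw1q).trans e0.symm
  have e2 : cent w0 = cent g := (h.hF w1 w0 hw1z hw0z (cent_le_of_mem_zpowers hw0)).symm.trans e1
  have hsq : s ≠ q := by
    rintro rfl
    exact hw0z (by rw [eq_one_of_isElt hw0s (not_dvd_of_zpowers hw0 hw1q)]; exact one_mem _)
  -- each part has the same centraliser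
  have hpart : ∀ v ∈ cent g, v ∉ center G → ((IsElt q v) ∨ ¬ q ∣ orderOf v) → cent v = cent g := by
    rintro v hv hvz (hvq | hvq)
    · exact (h.cent_eq_of_coprime hs hw0z hw0s (e2.symm ▸ hv) hvz
        (hvq.not_dvd hq hs hsq.symm)).trans e2
    · exact (h.cent_eq_of_coprime hq hg0z hg0q (e0 ▸ hv) hvz hvq).trans e0.symm
  have hcomm : ∀ v ∈ cent g, cent g ≤ cent v := by
    intro v hv
    obtain ⟨a, b, hab, hc, ha, hb, haq, hbq⟩ := exists_parts hq v
    have hle : ∀ c ∈ zpowers v, (IsElt q c ∨ ¬ q ∣ orderOf c) → cent g ≤ cent c := by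
      intro c hc hcq
      by_cases hcz : c ∈ center G
      · rw [mem_center_of_cent.1 hcz]; exact le_top
      · exact (hpart c (zpowers_le.2 hv hc) hcz hcq).ge
    intro x hx
    rw [hab]
    exact mem_cent.2 (Commute.mul_right (mem_cent.1 (hle a ha (Or.inl haq) hx))
      (mem_cent.1 (hle b hb (Or.inr hbq) hx))).eq
  exact ⟨fun a ha b hb => mem_cent.1 (hcomm b hb ha),
    fun v hv hvz => (h.hF g v hg.1 hvz (hcomm v hv)).symm⟩

theorem FHyp.cent_eq {g v : G} (hg : Mixed g) (hv : v ∈ cent g) (hvz : v ∉ center G) : cent v = cent g :=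
  (h.mixed_spec hg).2 v hv hvz

theorem FHyp.mixed_of_mem {g v : G} (hg : Mixed g) (hv : v ∈ cent g) (hvz : v ∉ center G) : Mixed v :=
  hg.congr hvz (h.cent_eq hg hv hvz)

/-- Mixed centralisers sharing a non-central element coincide. -/
theorem FHyp.cent_eq_cent {a b v : G} (ha : Mixed a) (hb : Mixed b) (hva : v ∈ cent a) (hvb : v ∈ cent b)
    (hvz : v ∉ center G) : cent a = cent b :=
  (h.cent_eq ha hva hvz).symm.trans (h.cent_eq hb hvb hvz)

/-- The `r`-elements of a mixed centraliser form a subgroup. -/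
theorem FHyp.exists_part {g : G} (hg : Mixed g) (r : ℕ) [hr : Fact r.Prime] :
    ∃ U : Subgroup G, U ≤ cent g ∧ IsPGroup r U ∧ Nat.card U = cp r (cent g) ∧
      ∀ x ∈ cent g, IsElt r x → x ∈ U := by
  obtain ⟨U, hU, hUp, hUc⟩ := exists_le_card_cp r (cent g)
  refine ⟨U, hU, hUp, hUc, fun x hx hxr => ?_⟩
  have hn : zpowers x ≤ normalizer (U : Set G) := zpowers_le.2 (centralizer_le_normalizer _
    (mem_centralizer_iff.2 fun u hu => ((h.mixed_spec hg).1 u (hU hu) x hx).eq))
  have h1 := card_le_cp (IsPGroup.to_sup_of_normal_left' hUp (isPGroup_zpowers hxr) hn)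
    (sup_le hU (zpowers_le.2 hx))
  exact (eq_of_le_of_card_ge le_sup_left (h1.trans hUc.ge)).ge (mem_sup_right (mem_zpowers x))

/-- The `r'`-elements of a mixed centraliser form a subgroup. -/
theorem FHyp.exists_coPart {g : G} (hg : Mixed g) (r : ℕ) [hr : Fact r.Prime] :
    ∃ K : Subgroup G, ∀ k, k ∈ K ↔ k ∈ cent g ∧ ¬ r ∣ orderOf k := by
  refine ⟨
    { carrier := {k | k ∈ cent g ∧ ¬ r ∣ orderOf k}
      one_mem' := ⟨one_mem _, by rw [orderOf_one]; exact hr.out.not_dvd_one⟩
      mul_mem' := fun {a b} ha hb => ⟨mul_mem ha.1 hb.1, fun hd => ?_⟩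
      inv_mem' := fun {a} ha => ⟨inv_mem ha.1, by rw [orderOf_inv]; exact ha.2⟩ }, fun k => Iff.rfl⟩
  have h1 := hd.trans (((h.mixed_spec hg).1 a ha.1 b hb.1).orderOf_mul_dvd_lcm.trans (Nat.lcm_dvd_mul _ _))
  exact (hr.out.dvd_mul.1 h1).elim ha.2 hb.2

omit h in
theorem Primary.part_eq {p r : ℕ} [hr : Fact r.Prime] {g : G} (hg : Primary p g) (hrp : r ≠ p) :
    cp r (cent g) = cp r (center G) := by
  refine le_antisymm (not_lt.1 fun hlt => ?_) (cp_mono (center_le_cent g))
  obtain ⟨v, hv, hvz, hvr⟩ := exists_noncentral hlt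
  exact hvz (hg.2.2 v hv (hvr.not_dvd hr.out hg.2.1 hrp))

omit h in
theorem Primary.part_lt {p : ℕ} {g : G} (hg : Primary p g) :
    cp p (center G) < cp p (cent g) := by
  haveI := Fact.mk hg.2.1
  obtain ⟨u, w, e, -, hu, hw, hup, hwp⟩ := exists_parts hg.2.1 g
  have hwg : w ∈ cent g := zpowers_le.2 (self_mem g) hw
  refine cp_center_lt (v := u) (fun huz => hg.1 ?_) hup (center_le_cent g) (zpowers_le.2 (self_mem g) hu)
  rw [e]; exact mul_mem huz (hg.2.2 w hwg hwp)

/-- There is at most one primary prime. -/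
theorem FHyp.primary_unique {p q : ℕ} {a b : G} (ha : Primary p a) (hb : Primary q b) : p = q := by
  by_contra hne
  haveI := Fact.mk ha.2.1
  haveI := Fact.mk hb.2.1
  have hab : (cent a).index ≠ (cent b).index := fun e => by
    have h1 := ha.part_lt
    rw [part_const_of_eq p e, hb.part_eq hne] at h1
    exact lt_irrefl _ h1
  obtain ⟨r, hr, hrp, hrq, w, hwr, hwz⟩ := h.three p q ha.2.1 hb.2.1
  haveI := Fact.mk hr
  have h1 := cp_center_lt hwz hwr (center_le_cent w) (self_mem w)
  rcases h.cases hwz with e | e <;> rcases h.cases ha.1 with e' | e' <;>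
    rcases h.cases hb.1 with e'' | e'' <;>
    first
    | exact hab (e'.trans e''.symm)
    | (rw [part_const_of_eq r (e.trans e'.symm), ha.part_eq hrp] at h1; exact lt_irrefl _ h1)
    | (rw [part_const_of_eq r (e.trans e''.symm), hb.part_eq hrq] at h1; exact lt_irrefl _ h1)

theorem FHyp.tame_of_primary {p r : ℕ} {g : G} (hg : Primary p g) (hr : r.Prime) (hrp : r ≠ p) :
    Tame G r := by
  intro w hwr hwz
  refine (mixed_or_primary hwz).resolve_right ?_
  rintro ⟨q, hq⟩
  obtain rfl := h.primary_unique hg hq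
  exact hwz (hq.2.2 w (self_mem w) (hwr.not_dvd hr hq.2.1 hrp))

/-- With a primary element all mixed classes have the same size. -/
theorem FHyp.mixed_index_eq {p : ℕ} {g a b : G} (hg : Primary p g) (ha : Mixed a) (hb : Mixed b) :
    (cent a).index = (cent b).index := by
  have key : ∀ c : G, Mixed c → (cent c).index ≠ (cent g).index := fun c hc e => by
    obtain ⟨r, hr, hrp, hlt⟩ := hc.exists_prime hg.2.1
    haveI := Fact.mk hr
    rw [part_const_of_eq r e, hg.part_eq hrp] at hlt
    exact lt_irrefl _ hlt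
  have h1 := key a ha; have h2 := key b hb
  have h3 := h.cases hg.1; have h4 := h.cases ha.1; have h5 := h.cases hb.1
  omega

end Cfsg.Agent.ItoSizes
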