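import Cfsg.Agent.Lib.ItoSizes.FInvert
import Cfsg.Agent.S4037
import Cfsg.Agent.Lib.OddOrderTheorem.Basic

/-!
# Three class sizes with a primary prime: solvability
-/

open Subgroup
open scoped commutatorElement

namespace Cfsg.Agent.ItoSizes

open ThreeSizes

set_option linter.unusedSectionVars false

variable {G : Type*} [Group G] [Finite G]

local notation "cent" x:max => Subgroup.centralizer ({x} : Set _)

/-- Classes of prime power size lie in a solvable normal subgroup `S` maximal such. -/
theorem mem_of_index_prime_pow {H : Type*} [Group H] [Finite H] {S : Subgroup H} [S.Normal]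
    [Group.IsSolvable S] (hmax : ∀ N : Subgroup H, N.Normal → Group.IsSolvable N → N ≤ S) {x : H} {p k : ℕ}
    (hp : p.Prime) (hx : (cent x).index = p ^ k) : x ∈ S :=
  hmax _ normalClosure_normal (S4037.result x hp k (by
    rw [← Nat.card_coe_set_eq, ClassIndex.natCard_carrier_eq_index]; exact hx))
    (subset_normalClosure rfl)

theorem exists_max_solvable (H : Type*) [Group H] [Finite H] : ∃ (S : Subgroup H) (_ : S.Normal),
    Group.IsSolvable S ∧ ∀ N : Subgroup H, N.Normal → Group.IsSolvable N → N ≤ S := by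
  have hne : ({N : Subgroup H | N.Normal ∧ Group.IsSolvable N}).Nonempty :=
    ⟨⊥, inferInstance, inferInstance⟩
  obtain ⟨S, ⟨hSn, hSs⟩, hmax⟩ := (Set.toFinite _).exists_maximal hne
  refine ⟨S, hSn, hSs, fun N hN hNs => ?_⟩
  haveI := hSn; haveI := hSs; haveI := hN; haveI := hNs
  exact le_trans le_sup_right (hmax ⟨inferInstance, Solvable.isSolvable_sup S N⟩ le_sup_left)

theorem bar_cent_le {x : G} : bar (cent x) ≤ cent (x : G ⧸ center G) := by
  rintro _ ⟨y, hy, rfl⟩
  exact mem_cent.2 (by
    show (y : G ⧸ center G) * x = x * y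
    rw [← QuotientGroup.mk_mul, ← QuotientGroup.mk_mul, mem_cent.1 hy])

theorem index_bar {A : Subgroup G} (hA : center G ≤ A) : (bar A).index = A.index :=
  Subgroup.index_map_eq A (QuotientGroup.mk'_surjective _) (by rwa [QuotientGroup.ker_mk'])

variable {n₁ n₂ : ℕ} (h : FHyp G n₁ n₂) {p : ℕ} {g₀ : G} (hg : Primary p g₀)
include h hg

theorem FHyp.not_dvd_mixed {r : ℕ} (hr : r.Prime) (hrp : r ≠ p) (hodd : r ≠ 2) {a : G} (ha : Mixed a) :
    ¬ r ∣ (cent a).index := by
  haveI := Fact.mk hr
  intro hd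
  obtain ⟨v, hvz, hv⟩ := exists_noncentral_of_dvd hd
  obtain ⟨R⟩ : Nonempty (Sylow r G) := inferInstance
  obtain ⟨u, hu⟩ := exists_omega R hv hvz
  have hle := h.good hg hrp hodd hu
  have h1 := card_le_cp R.2 hle
  rw [card_sylow] at h1
  rw [h.mixed_index_eq hg ha (h.omega_mixed hg hrp hu)] at hd
  exact cp_eq_top_iff.1 (le_antisymm (cp_mono le_top) h1) hd

/-- Solvability with a primary element. -/
theorem FHyp.isSolvable_of_primary : Group.IsSolvable G := by
  obtain ⟨S, hSn, hSs, hmax⟩ := exists_max_solvable (G ⧸ center G)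
  haveI := hSn; haveI := hSs
  have hp := hg.2.1
  haveI : Fact (Nat.Prime 2) := ⟨Nat.prime_two⟩
  refine isSolvable_of_quotient_center ?_
  have finish : Group.IsSolvable ((G ⧸ center G) ⧸ S) → Group.IsSolvable (G ⧸ center G) := fun hq => by
    haveI := hq
    exact (Solvable.isSolvable_subgroup_quotient_iff S).2 ⟨inferInstance, inferInstance⟩
  obtain ⟨r0, hr0, hr0p, -, w0, hw0, hw0z⟩ := h.three p p hp hp
  have hm0 := h.tame_of_primary hg hr0 hr0p w0 hw0 hw0z
  by_cases h2 : p ≠ 2 ∧ 2 ∣ (cent w0).index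
  · -- the prime two is bad
    obtain ⟨hp2, h2d⟩ := h2
    obtain ⟨v, hvz, hv⟩ := exists_noncentral_of_dvd h2d
    obtain ⟨T⟩ : Nonempty (Sylow 2 G) := inferInstance
    obtain ⟨u, hu⟩ := exists_omega T hv hvz
    have hm := h.omega_mixed hg (Ne.symm hp2) hu
    let Tb : Sylow 2 (G ⧸ center G) :=
      T.mapSurjective (f := QuotientGroup.mk' (center G)) (QuotientGroup.mk'_surjective _)
    have hTb : (Tb : Subgroup (G ⧸ center G)) = bar (T : Subgroup G) := rfl
    have hTu : ¬ (T : Subgroup G) ≤ cent u := by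
      intro hle
      have h1 := card_le_cp T.2 hle
      rw [card_sylow] at h1
      rw [← h.mixed_index_eq hg hm hm0] at h2d
      exact cp_eq_top_iff.1 (le_antisymm (cp_mono le_top) h1) h2d
    have huS : (u : G ⧸ center G) ∈ S := by
      have hidx : (cent (u : G ⧸ center G)).index ∣ (cent u).index := by
        have := index_dvd_of_le (bar_cent_le (x := u))
        rwa [index_bar (center_le_cent u)] at this
      have hT : (Tb : Subgroup (G ⧸ center G)) ≤ cent (u : G ⧸ center G) := by
        rw [hTb]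
        rintro _ ⟨y, hy, rfl⟩
        exact mem_cent.2 (comm_mem_iff.1 (hu.2.2.2 y hy)).eq
      refine mem_of_index_prime_pow hmax (p := p) hp
        (k := (cent (u : G ⧸ center G)).index.primeFactorsList.length) ?_
      refine Nat.eq_prime_pow_of_unique_prime_dvd index_ne_zero_of_finite fun {d} hd hdd => ?_
      by_contra hdp
      rcases eq_or_ne d 2 with rfl | hd2
      · exact Tb.not_dvd_index (hdd.trans (index_dvd_of_le hT))
      · exact h.not_dvd_mixed hg hd hdp hd2 hm (hdd.trans hidx)
    have hTS : bar (T : Subgroup G) ≤ S := by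
      have hout : ∀ x ∈ (T : Subgroup G), x ∉ cent u → (x : G ⧸ center G) ∈ S := by
        intro x hx hxu
        obtain ⟨c, -, -, -, -, -, -, hl⟩ := h.line hg (Ne.symm hp2) hu hx hxu
        refine zpowers_le.2 ?_ (hl.ge (mem_zpowers _))
        rw [QuotientGroup.mk_mul, QuotientGroup.mk_mul, QuotientGroup.mk_inv]
        exact hSn.conj_mem _ huS _
      rintro _ ⟨y, hy, rfl⟩
      by_cases hyu : y ∈ cent u
      · obtain ⟨x, hx, hxu⟩ := SetLike.not_le_iff_exists.1 hTu
        have h1 := hout (y * x) (mul_mem hy hx) fun hc => hxu (by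
          have := mul_mem (inv_mem hyu) hc
          rwa [inv_mul_cancel_left] at this)
        have h2 := mul_mem h1 (inv_mem (hout x hx hxu))
        rw [QuotientGroup.mk_mul, mul_inv_cancel_right] at h2
        exact h2
      · exact hout y hy hyu
    refine finish (OddOrderTheorem.solvable ?_)
    rw [← Nat.not_even_iff_odd, even_iff_two_dvd]
    intro hd
    exact Tb.not_dvd_index (hd.trans (index_dvd_of_le (hTb ▸ hTS)))
  · -- mixed class sizes are powers of `p`
    have hmp : ∀ a : G, Mixed a → ∀ d : ℕ, d.Prime → d ∣ (cent a).index → d = p := by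
      intro a ha d hd hdd
      by_contra hdp
      rcases eq_or_ne d 2 with rfl | hd2
      · exact h2 ⟨Ne.symm hdp, h.mixed_index_eq hg ha hm0 ▸ hdd⟩
      · exact h.not_dvd_mixed hg hd hdp hd2 ha hdd
    have hS : ∀ r : ℕ, r.Prime → r ≠ p → ∀ w : G, IsElt r w → (w : G ⧸ center G) ∈ S := by
      intro r hr hrp w hw
      by_cases hwz : w ∈ center G
      · rw [mk_eq_one.2 hwz]; exact one_mem S
      have hmw := h.tame_of_primary hg hr hrp w hw hwz
      refine mem_of_index_prime_pow hmax (p := p) hp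
        (k := (cent (w : G ⧸ center G)).index.primeFactorsList.length) ?_
      refine Nat.eq_prime_pow_of_unique_prime_dvd index_ne_zero_of_finite fun {d} hd hdd => ?_
      have hidx := index_dvd_of_le (bar_cent_le (x := w))
      rw [index_bar (center_le_cent w)] at hidx
      exact hmp w hmw d hd (hdd.trans hidx)
    refine finish (isSolvable_of_two_primes hp hp fun r hr hd => ?_)
    by_contra hne
    push Not at hne
    haveI := Fact.mk hr
    obtain ⟨q, hq⟩ := exists_prime_orderOf_dvd_card' (G := (G ⧸ center G) ⧸ S) r hd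
    obtain ⟨qb, rfl⟩ := QuotientGroup.mk_surjective q
    obtain ⟨g, rfl⟩ := QuotientGroup.mk_surjective qb
    obtain ⟨u, w, hgw, -, -, -, hu, hw⟩ := exists_parts hr g
    rw [hgw, QuotientGroup.mk_mul, QuotientGroup.mk_mul, (QuotientGroup.eq_one_iff _).2 (hS r hr hne.1 u hu),
      one_mul] at hq
    exact hw ((hq ▸ orderOf_map_dvd (QuotientGroup.mk' S) (w : G ⧸ center G) : r ∣ _).trans
      (orderOf_map_dvd (QuotientGroup.mk' (center G)) w))

omit hg in
theorem FHyp.isSolvable : Group.IsSolvable G := by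
  by_cases hex : ∃ p : ℕ, ∃ g : G, Primary p g
  · obtain ⟨p, g, hg⟩ := hex
    exact h.isSolvable_of_primary hg
  · exact h.isSolvable_of_all_mixed fun g hg =>
      (mixed_or_primary hg).resolve_right fun ⟨p, hp⟩ => hex ⟨p, g, hp⟩

omit h hg in
/-- **Itô**: three class sizes imply solvability. -/
theorem isSolvable_of_three_sizes {n₁ n₂ : ℕ} (h : Hyp3 G n₁ n₂) : Group.IsSolvable G := by
  by_cases hF : ∀ a b : G, a ∉ center G → b ∉ center G → cent a ≤ cent b → cent a = cent b
  · by_cases h3 : ∀ p q : ℕ, p.Prime → q.Prime →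
        ∃ r : ℕ, r.Prime ∧ r ≠ p ∧ r ≠ q ∧ ∃ w : G, IsElt r w ∧ w ∉ center G
    · exact FHyp.isSolvable (n₁ := n₁) (n₂ := n₂) ⟨h, hF, h3⟩
    · push Not at h3
      obtain ⟨p, q, hp, hq, h3⟩ := h3
      exact isSolvable_of_two_primes_center hp hq h3
  · push Not at hF
    obtain ⟨a, b, ha, hb, hab, hne⟩ := hF
    exact isSolvable_of_nonF h ha hb (lt_of_le_of_ne hab hne)

end Cfsg.Agent.ItoSizes
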