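import Cfsg.Agent.Lib.ItoSizes.Tools
import Mathlib.Algebra.Field.ZMod

/-!
# An elementary group of order `r²` with a transitive normaliser

`exists_two_elt`: if the normaliser of `⟨a, b⟩` moves the line of `b` to all `r + 1` lines then, `r` being
odd, some `2`-element induces an involution.
-/

open Subgroup
open scoped commutatorElement

namespace Cfsg.Agent.ItoSizes

open ThreeSizes

variable {H : Type*} [Group H] [Finite H]

/-- `a` and `b` span an elementary abelian group of order `r²`. -/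
structure Pair (r : ℕ) (a b : H) : Prop where
  comm : Commute a b
  ha : a ^ r = 1
  hb : b ^ r = 1
  indep : ∀ i j : ℕ, a ^ i * b ^ j = 1 → r ∣ i ∧ r ∣ j

/-- The span -/
abbrev plane (a b : H) : Subgroup H := zpowers a ⊔ zpowers b

theorem mem_plane {r : ℕ} [hr : Fact r.Prime] {a b : H} (h : Pair r a b) {g : H} :
    g ∈ plane a b ↔ ∃ i j : ℕ, a ^ i * b ^ j = g := by
  constructor
  · intro hg
    let P : Subgroup H :=
      { carrier := {g | ∃ i j : ℕ, a ^ i * b ^ j = g}
        one_mem' := ⟨0, 0, by simp⟩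
        mul_mem' := by
          rintro _ _ ⟨i, j, rfl⟩ ⟨i', j', rfl⟩
          refine ⟨i + i', j + j', ?_⟩
          rw [pow_add, pow_add]
          have hc : Commute (a ^ i') (b ^ j) := (h.comm.pow_left i').pow_right j
          calc a ^ i * a ^ i' * (b ^ j * b ^ j') = a ^ i * (a ^ i' * b ^ j) * b ^ j' := by group
            _ = _ := by rw [hc.eq]; group
        inv_mem' := by
          rintro _ ⟨i, j, rfl⟩
          have hr1 := hr.out.one_le
          refine ⟨i * (r - 1), j * (r - 1), ?_⟩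
          rw [pow_mul, pow_mul, ← (((h.comm.pow_left i).pow_right j).mul_pow)]
          refine eq_inv_of_mul_eq_one_left ?_
          rw [← pow_succ, Nat.sub_add_cancel hr1, ((h.comm.pow_left i).pow_right j).mul_pow, ← pow_mul,
            ← pow_mul, mul_comm i, mul_comm j, pow_mul, pow_mul, h.ha, h.hb, one_pow, one_pow, one_mul] }
    exact (sup_le (zpowers_le.2 ⟨1, 0, by simp⟩) (zpowers_le.2 ⟨0, 1, by simp⟩) : plane a b ≤ P) hg
  · rintro ⟨i, j, rfl⟩
    exact mul_mem (mem_sup_left (pow_mem (mem_zpowers a) i)) (mem_sup_right (pow_mem (mem_zpowers b) j))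

theorem Pair.eq_mod {r : ℕ} [hr : Fact r.Prime] {a b : H} (h : Pair r a b) {i j i' j' : ℕ}
    (e : a ^ i * b ^ j = a ^ i' * b ^ j') : (i : ZMod r) = i' ∧ (j : ZMod r) = j' := by
  have hr1 := hr.out.one_le
  have hn : ∀ n : ℕ, n + (r - 1) * n = r * n := fun n => by
    rw [Nat.sub_mul, one_mul, Nat.add_sub_cancel' (Nat.le_mul_of_pos_left n hr.out.pos)]
  have key : a ^ (i + (r - 1) * i') * b ^ (j + (r - 1) * j') = 1 := by
    rw [pow_add, pow_add, show a ^ i * a ^ ((r - 1) * i') * (b ^ j * b ^ ((r - 1) * j')) =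
      a ^ i * (a ^ ((r - 1) * i') * b ^ j) * b ^ ((r - 1) * j') by group,
      (((h.comm.pow_left _).pow_right j)).eq, show a ^ i * (b ^ j * a ^ ((r - 1) * i')) * b ^ ((r - 1) * j') =
      (a ^ i * b ^ j) * (a ^ ((r - 1) * i') * b ^ ((r - 1) * j')) by group, e]
    calc a ^ i' * b ^ j' * (a ^ ((r - 1) * i') * b ^ ((r - 1) * j'))
        = a ^ i' * (b ^ j' * a ^ ((r - 1) * i')) * b ^ ((r - 1) * j') := by group
      _ = a ^ i' * (a ^ ((r - 1) * i') * b ^ j') * b ^ ((r - 1) * j') := by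
          rw [((h.comm.pow_left _).pow_right _).eq]
      _ = a ^ (r * i') * b ^ (r * j') := by
          rw [← mul_assoc, mul_assoc (a ^ i' * _), ← pow_add, ← pow_add, hn i', hn j']
      _ = 1 := by rw [pow_mul, pow_mul, h.ha, h.hb, one_pow, one_pow, one_mul]
  obtain ⟨h1, h2⟩ := h.indep _ _ key
  have hz : ∀ n : ℕ, r ∣ n → (n : ZMod r) = 0 := fun n => (ZMod.natCast_eq_zero_iff n r).2
  constructor
  · have := hz _ h1
    push_cast [Nat.cast_sub hr1, ZMod.natCast_self] at this
    linear_combination this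
  · have := hz _ h2
    push_cast [Nat.cast_sub hr1, ZMod.natCast_self] at this
    linear_combination this

theorem Pair.pow_mod {r : ℕ} [hr : Fact r.Prime] {a b : H} (h : Pair r a b) {i j : ℕ}
    (e : (i : ZMod r) = j) : a ^ i = a ^ j ∧ b ^ i = b ^ j := by
  rw [ZMod.natCast_eq_natCast_iff] at e
  exact ⟨pow_eq_pow_iff_modEq.2 (e.of_dvd (orderOf_dvd_of_pow_eq_one h.ha)),
    pow_eq_pow_iff_modEq.2 (e.of_dvd (orderOf_dvd_of_pow_eq_one h.hb))⟩

/-- An element inducing an involution. -/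
theorem exists_two_elt {r : ℕ} [hr : Fact r.Prime] (hodd : r ≠ 2) {a b : H} (h : Pair r a b)
    (hline : ∀ i : ℕ, ∃ m ∈ normalizer (plane a b : Set H), m * b * m⁻¹ ∈ zpowers (b * a ^ i))
    (hline' : ∃ m ∈ normalizer (plane a b : Set H), m * b * m⁻¹ ∈ zpowers a) :
    ∃ m ∈ normalizer (plane a b : Set H), IsElt 2 m ∧ m ∉ centralizer (plane a b : Set H) ∧
      m * m ∈ centralizer (plane a b : Set H) := by
  classical
  set E := plane a b with hE
  set M := normalizer (E : Set H) with hM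
  set C := (centralizer (E : Set H)).subgroupOf M with hC
  haveI : C.Normal := by
    refine ⟨fun c hc g => ?_⟩
    refine (mem_subgroupOf.2 ?_)
    exact (mem_normalizer_iff.1 (PLocal.normalizer_le_normalizer_centralizer _ g.2) (c : H)).1
      (mem_subgroupOf.1 hc)
  have hb1 : b ≠ 1 := fun e => hr.out.ne_one (Nat.dvd_one.1 (h.indep 0 1 (by simp [e])).2)
  have ha1 : a ≠ 1 := fun e => hr.out.ne_one (Nat.dvd_one.1 (h.indep 1 0 (by simp [e])).1)
  have hob : orderOf b = r := orderOf_eq_prime h.hb hb1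
  -- the orbit of the line of `b`
  let φ : ↥M → Subgroup H := fun m => zpowers ((m : H) * b * (m : H)⁻¹)
  let S : Subgroup ↥M :=
    { carrier := {s | (s : H) * b * (s : H)⁻¹ ∈ zpowers b}
      one_mem' := by simp
      mul_mem' := fun {s t} hs ht => by
        obtain ⟨k, hk⟩ := mem_zpowers_iff.1 ht
        show (s : H) * (t : H) * b * ((s : H) * (t : H))⁻¹ ∈ zpowers b
        rw [show (s : H) * (t : H) * b * ((s : H) * (t : H))⁻¹ =
          (s : H) * ((t : H) * b * (t : H)⁻¹) * (s : H)⁻¹ by group, ← hk, ← conj_zpow]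
        exact zpow_mem hs k
      inv_mem' := fun {s} hs => by
        have hcard : Nat.card (zpowers ((s : H) * b * (s : H)⁻¹)) = Nat.card (zpowers b) := by
          rw [Nat.card_zpowers, Nat.card_zpowers,
            show (s : H) * b * (s : H)⁻¹ = MulAut.conj (s : H) b from rfl, MulEquiv.orderOf_eq]
        have e := eq_of_le_of_card_ge (zpowers_le.2 hs) hcard.ge
        obtain ⟨k, hk⟩ := mem_zpowers_iff.1 (e.ge (mem_zpowers b))
        refine mem_zpowers_iff.2 ⟨k, ?_⟩
        show b ^ k = ((s : H))⁻¹ * b * ((s : H))⁻¹⁻¹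
        conv_rhs => rw [← hk, conj_zpow]
        group }
  have hφ : ∀ m n : ↥M, φ m = φ n ↔ m⁻¹ * n ∈ S := by
    intro m n
    constructor
    · intro e
      obtain ⟨k, hk⟩ := mem_zpowers_iff.1 (e.ge (mem_zpowers _) : (n : H) * b * (n : H)⁻¹ ∈ φ m)
      refine mem_zpowers_iff.2 ⟨k, ?_⟩
      show b ^ k = (m : H)⁻¹ * (n : H) * b * ((m : H)⁻¹ * (n : H))⁻¹
      rw [show (m : H)⁻¹ * (n : H) * b * ((m : H)⁻¹ * (n : H))⁻¹ =
        (m : H)⁻¹ * ((n : H) * b * (n : H)⁻¹) * m by group, ← hk, conj_zpow]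
      group
    · intro hs
      obtain ⟨k, hk⟩ := mem_zpowers_iff.1 hs
      have hmem : (n : H) * b * (n : H)⁻¹ ∈ φ m := mem_zpowers_iff.2 ⟨k, by
        rw [conj_zpow, hk]
        show (m : H) * ((m : H)⁻¹ * (n : H) * b * ((m : H)⁻¹ * (n : H))⁻¹) * (m : H)⁻¹ = _
        group⟩
      refine (eq_of_le_of_card_ge (zpowers_le.2 hmem) ?_).symm
      show Nat.card (zpowers ((m : H) * b * (m : H)⁻¹)) ≤ Nat.card (zpowers ((n : H) * b * (n : H)⁻¹))
      rw [Nat.card_zpowers, Nat.card_zpowers,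
        show (m : H) * b * (m : H)⁻¹ = MulAut.conj (m : H) b from rfl,
        show (n : H) * b * (n : H)⁻¹ = MulAut.conj (n : H) b from rfl, MulEquiv.orderOf_eq, MulEquiv.orderOf_eq]
  have hquot : Nat.card (↥M ⧸ S) = Nat.card (Set.range φ) := by
    refine Nat.card_congr (Equiv.ofBijective (fun q => Quotient.liftOn' q
      (fun m => (⟨φ m, m, rfl⟩ : Set.range φ)) fun m n e => Subtype.ext ((hφ m n).2 (QuotientGroup.leftRel_apply.1 e))) ⟨?_, ?_⟩)
    · intro p q e
      induction p using QuotientGroup.induction_on with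
      | H m =>
        induction q using QuotientGroup.induction_on with
        | H n => exact QuotientGroup.eq.2 ((hφ m n).1 (congrArg Subtype.val e))
    · rintro ⟨_, m, rfl⟩
      exact ⟨(m : ↥M ⧸ S), rfl⟩
  -- exactly `r + 1` lines
  have hord : ∀ i : ℕ, orderOf (b * a ^ i) = r := fun i => by
    refine orderOf_eq_prime ?_ fun e => hr.out.ne_one (Nat.dvd_one.1 (h.indep i 1 (by
      rw [pow_one, (h.comm.pow_left i).eq, e])).2)
    rw [((h.comm.pow_left i).symm).mul_pow, h.hb, ← pow_mul, mul_comm, pow_mul, h.ha, one_pow, one_mul]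
  have hcardL : ∀ m : ↥M, Nat.card (φ m) = r := fun m => by
    show Nat.card (zpowers ((m : H) * b * (m : H)⁻¹)) = r
    rw [Nat.card_zpowers, show (m : H) * b * (m : H)⁻¹ = MulAut.conj (m : H) b from rfl,
      MulEquiv.orderOf_eq, hob]
  let F : Option (ZMod r) → Subgroup H := fun o => o.elim (zpowers a) fun i => zpowers (b * a ^ i.val)
  have hFr : ∀ o, F o ∈ Set.range φ := by
    rintro (_ | i)
    · obtain ⟨m, hm, hmb⟩ := hline'
      exact ⟨⟨m, hm⟩, eq_of_le_of_card_ge (zpowers_le.2 hmb) (by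
        rw [hcardL ⟨m, hm⟩]
        show Nat.card (zpowers a) ≤ r
        rw [Nat.card_zpowers, orderOf_eq_prime h.ha ha1])⟩
    · obtain ⟨m, hm, hmb⟩ := hline i.val
      exact ⟨⟨m, hm⟩, eq_of_le_of_card_ge (zpowers_le.2 hmb) (by
        rw [hcardL ⟨m, hm⟩]
        show Nat.card (zpowers _) ≤ r
        rw [Nat.card_zpowers, hord])⟩
  have hsurj : ∀ m : ↥M, ∃ o, F o = φ m := by
    intro m
    obtain ⟨i, j, hij⟩ := (mem_plane h).1 ((mem_normalizer_iff.1 m.2 b).1 (mem_sup_right (mem_zpowers b)))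
    by_cases hj : (j : ZMod r) = 0
    · refine ⟨none, (eq_of_le_of_card_ge (zpowers_le.2 ?_) ?_).symm⟩
      · show (m : H) * b * (m : H)⁻¹ ∈ zpowers a
        rw [← hij, (h.pow_mod (i := j) (j := 0) (by simpa using hj)).2, pow_zero, mul_one]
        exact pow_mem (mem_zpowers a) i
      · rw [hcardL m]; show Nat.card (zpowers a) ≤ r
        rw [Nat.card_zpowers, orderOf_eq_prime h.ha ha1]
    · refine ⟨some ((i : ZMod r) * (j : ZMod r)⁻¹), (eq_of_le_of_card_ge (zpowers_le.2 ?_) ?_).symm⟩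
      · show (m : H) * b * (m : H)⁻¹ ∈ zpowers (b * a ^ ((i : ZMod r) * (j : ZMod r)⁻¹).val)
        refine mem_zpowers_iff.2 ⟨(j : ℤ), ?_⟩
        rw [zpow_natCast, ((h.comm.pow_left _).symm).mul_pow, ← pow_mul,
          ((h.comm.pow_left _).pow_right _).symm.eq, (h.pow_mod (j := i) ?_).1, hij]
        push_cast [ZMod.natCast_zmod_val]
        rw [mul_assoc, inv_mul_cancel₀ hj, mul_one]
      · rw [hcardL m]
        show Nat.card (zpowers _) ≤ r
        rw [Nat.card_zpowers, hord]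
  have hinj : Function.Injective F := by
    have hna : ∀ i : ZMod r, F none ≠ F (some i) := fun i e => by
      obtain ⟨k, hk⟩ := (mem_zpowers_iff_mem_range_orderOf.1 (e.ge (mem_zpowers (b * a ^ i.val)) :
        b * a ^ i.val ∈ zpowers a)) |> fun hh => (Finset.mem_image.1 hh)
      have := (h.eq_mod (i := k) (j := 0) (i' := i.val) (j' := 1) (by
        rw [pow_zero, mul_one, pow_one, hk.2, (h.comm.pow_left _).eq])).2
      simp at this
    rintro (_ | i) (_ | j) e
    · rfl
    · exact absurd e (hna j)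
    · exact absurd e.symm (hna i)
    · obtain ⟨k, hk⟩ := Finset.mem_image.1 (mem_zpowers_iff_mem_range_orderOf.1
        (e.ge (mem_zpowers (b * a ^ j.val)) : b * a ^ j.val ∈ zpowers (b * a ^ i.val)))
      have e2 : a ^ (i.val * k) * b ^ k = a ^ j.val * b ^ 1 := by
        rw [pow_one, (h.comm.pow_left _).eq, ← hk.2, ((h.comm.pow_left _).symm).mul_pow, ← pow_mul,
          ((h.comm.pow_left _).pow_right _).eq]
      obtain ⟨e3, e4⟩ := h.eq_mod e2
      push_cast [ZMod.natCast_zmod_val] at e3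
      rw [e4, Nat.cast_one, mul_one] at e3
      rw [e3]
  have hcount : Nat.card (Set.range φ) = r + 1 := by
    have e : Set.range φ = Set.range F := by
      refine Set.Subset.antisymm ?_ ?_
      · rintro _ ⟨m, rfl⟩; exact hsurj m
      · rintro _ ⟨o, rfl⟩; exact hFr o
    rw [e, Nat.card_range_of_injective hinj, Finite.card_option, Nat.card_zmod]
  -- an involution of `M / C`
  have hCS : C ≤ S := fun c hc => by
    show (c : H) * b * (c : H)⁻¹ ∈ zpowers b
    rw [← mem_centralizer_iff.1 (mem_subgroupOf.1 hc) b (mem_sup_right (mem_zpowers b)), mul_inv_cancel_right]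
    exact mem_zpowers b
  have heven : 2 ∣ Nat.card (↥M ⧸ C) := by
    have h1 : S.index ∣ C.index := index_dvd_of_le hCS
    have h2 : S.index = r + 1 := hquot.trans hcount
    refine dvd_trans ?_ (h2 ▸ h1)
    exact even_iff_two_dvd.1 ((hr.out.odd_of_ne_two hodd).add_odd odd_one)
  obtain ⟨q, hq⟩ := exists_prime_orderOf_dvd_card' (G := ↥M ⧸ C) 2 heven
  obtain ⟨m, rfl⟩ := QuotientGroup.mk_surjective q
  obtain ⟨m1, m2, hm, -, hm1, -, hm1e, hm2e⟩ := exists_parts Nat.prime_two m
  refine ⟨m1, m1.2, ?_, fun hc => ?_, ?_⟩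
  · obtain ⟨k, hk⟩ := hm1e
    exact ⟨k, by rw [← hk, Subgroup.orderOf_coe]⟩
  all_goals
    have hm2C : (m2 : ↥M ⧸ C) = 1 := by
      refine orderOf_eq_one_iff.1 (Nat.eq_one_of_dvd_coprimes (k := orderOf (m2 : ↥M ⧸ C))
        (Nat.coprime_comm.1 (Nat.prime_two.coprime_iff_not_dvd.2 hm2e))
        (orderOf_map_dvd (QuotientGroup.mk' C) m2) ?_)
      rw [← hq]
      have h1 : (m2 : ↥M ⧸ C) = (m1 : ↥M ⧸ C)⁻¹ * (m : ↥M ⧸ C) := by
        rw [hm, QuotientGroup.mk_mul, inv_mul_cancel_left]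
      obtain ⟨z, hz⟩ := mem_zpowers_iff.1 hm1
      refine orderOf_dvd_of_mem_zpowers ?_
      rw [h1, ← hz, QuotientGroup.mk_zpow]
      exact mul_mem (inv_mem (zpow_mem (mem_zpowers _) z)) (mem_zpowers _)
    have hmm1 : (m : ↥M ⧸ C) = m1 := by rw [hm, QuotientGroup.mk_mul, hm2C, mul_one]
  · rw [hmm1, (QuotientGroup.eq_one_iff m1).2 (mem_subgroupOf.2 hc), orderOf_one] at hq
    exact absurd hq (by omega)
  · have h2 := pow_orderOf_eq_one (m : ↥M ⧸ C)
    rw [hq, hmm1, ← QuotientGroup.mk_pow, QuotientGroup.eq_one_iff, pow_two] at h2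
    exact mem_subgroupOf.1 h2

/-- An involution of determinant one is `-1`. -/
theorem neg_one_of_sq {r : ℕ} [hr : Fact r.Prime] (hodd : r ≠ 2) {α β γ δ : ZMod r}
    (h1 : α * α + β * γ = 1) (h2 : α * β + β * δ = 0) (h3 : γ * α + δ * γ = 0) (h4 : γ * β + δ * δ = 1)
    (hdet : α * δ - β * γ = 1) (hne : ¬ (α = 1 ∧ β = 0 ∧ γ = 0 ∧ δ = 1)) :
    α = -1 ∧ β = 0 ∧ γ = 0 ∧ δ = -1 := by
  have two : (2 : ZMod r) ≠ 0 := by
    intro e
    have : ((2 : ℕ) : ZMod r) = 0 := by exact_mod_cast e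
    rw [ZMod.natCast_eq_zero_iff] at this
    exact hodd ((Nat.prime_dvd_prime_iff_eq hr.out Nat.prime_two).1 this)
  have ht : α * (α + δ) = 2 := by linear_combination h1 + hdet
  have ht0 : α + δ ≠ 0 := fun e => two (by rw [← ht, e, mul_zero])
  have hb : β = 0 := by
    have : β * (α + δ) = 0 := by linear_combination h2
    exact (mul_eq_zero.1 this).resolve_right ht0
  have hc : γ = 0 := by
    have : γ * (α + δ) = 0 := by linear_combination h3
    exact (mul_eq_zero.1 this).resolve_right ht0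
  subst hb; subst hc
  have e1 : α * α = 1 := by linear_combination h1
  have hd : δ = α := by linear_combination (-δ) * e1 + α * hdet
  rcases mul_self_eq_one_iff.1 e1 with e | e
  · exact absurd ⟨e, rfl, rfl, hd.trans e⟩ hne
  · exact ⟨e, rfl, rfl, hd.trans e⟩

end Cfsg.Agent.ItoSizes
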