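import Cfsg.Agent.Lib.ItoSizes.FBad
import Cfsg.Agent.Lib.ItoSizes.Lines

/-!
# Three class sizes with a primary prime `p`: Sylow subgroups for odd primes `≠ p` lie in mixed centralisers
-/

open Subgroup
open scoped commutatorElement

namespace Cfsg.Agent.ItoSizes

open ThreeSizes

set_option linter.unusedSectionVars false

variable {G : Type*} [Group G] [Finite G]

local notation "cent" x:max => Subgroup.centralizer ({x} : Set _)

theorem mem_bar {H : Subgroup G} {x : G} (hx : x ∈ H) : (x : G ⧸ center G) ∈ bar H := mem_map_of_mem _ hx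

theorem comm_mul_left {a b c : G} (hb : ⁅b, c⁆ ∈ center G) : ⁅a * b, c⁆ = ⁅a, c⁆ * ⁅b, c⁆ := by
  rw [commutatorElement_mul_left_eq_conj_mul, mem_center_iff.1 hb a, mul_inv_cancel_right]
  exact (mem_center_iff.1 hb _).symm

theorem comm_mul_central_left {a z c : G} (hz : z ∈ center G) : ⁅a * z, c⁆ = ⁅a, c⁆ := by
  have e : ⁅z, c⁆ = 1 := commutatorElement_eq_one_iff_mul_comm.2 (mem_center_iff.1 hz c).symm
  rw [comm_mul_left (by rw [e]; exact one_mem _), e, mul_one]

theorem comm_mul_central_right {a z c : G} (hz : z ∈ center G) : ⁅a, c * z⁆ = ⁅a, c⁆ := by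
  rw [← commutatorElement_inv (c * z), comm_mul_central_left hz, commutatorElement_inv]

theorem cent_inv (x : G) : cent x⁻¹ = cent x :=
  le_antisymm (cent_le_of_mem_zpowers (by simpa using inv_mem (mem_zpowers x⁻¹)))
    (cent_le_of_mem_zpowers (inv_mem (mem_zpowers x)))

theorem cent_eq_of_mk_eq {a b : G} (e : (a : G ⧸ center G) = b) : cent a = cent b := by
  have hz := QuotientGroup.eq.1 e
  have := cent_mul_central (x := a) hz
  rwa [mul_inv_cancel_left, eq_comm] at this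

variable {n₁ n₂ : ℕ} (h : FHyp G n₁ n₂) {p : ℕ} {g₀ : G} (hg : Primary p g₀)
include h hg

/-- A single class of mixed centralisers. -/
theorem FHyp.conj_mixed {a b : G} (ha : Mixed a) (hb : Mixed b) :
    ∃ c : G, cent (c * a * c⁻¹) = cent b := by
  obtain ⟨r, hr, hrp, -, w, hwr, hwz⟩ := h.three p p hg.2.1 hg.2.1
  obtain ⟨s, hs, hsp, hsr, v, hvs, hvz⟩ := h.three p r hg.2.1 hr
  haveI := Fact.mk hr
  haveI := Fact.mk hs
  have htr := h.tame_of_primary hg hr hrp
  have hts := h.tame_of_primary hg hs hsp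
  refine h.conj_of_index_eq hr hs (Ne.symm hsr) htr hts ha hb (h.mixed_index_eq hg ha hb) ?_ ?_
  · rw [part_const_of_eq r (h.mixed_index_eq hg ha (htr w hwr hwz))]
    exact cp_center_lt hwz hwr (center_le_cent w) (self_mem w)
  · rw [part_const_of_eq s (h.mixed_index_eq hg ha (hts v hvs hvz))]
    exact cp_center_lt hvz hvs (center_le_cent v) (self_mem v)

variable {r : ℕ} [hr : Fact r.Prime] (hrp : r ≠ p)
include hrp

theorem FHyp.omega_mixed {R : Sylow r G} {u : G} (hu : Omega R u) : Mixed u :=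
  h.tame_of_primary hg hr.out hrp u (isElt_of_mem R.2 hu.1) hu.2.1

/-- Every element outside `D` is a generator of the line of a conjugate of `u`. -/
theorem FHyp.line {R : Sylow r G} {u : G} (hu : Omega R u) {x : G} (hx : x ∈ (R : Subgroup G))
    (hxu : x ∉ cent u) :
    ∃ (c : G) (R' : Sylow r G), (R' : Subgroup G) = (R : Subgroup G).map (MulAut.conj c).toMonoidHom ∧
      u ∈ (R' : Subgroup G) ∧ Omega R' x ∧ cent (c * u * c⁻¹) = cent x ∧ u ∉ cent x ∧
      zpowers ((c * u * c⁻¹ : G) : G ⧸ center G) = zpowers (x : G ⧸ center G) := by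
  have hm := h.omega_mixed hg hrp hu
  have ht := h.tame_of_primary hg hr.out hrp
  obtain ⟨hmx, hxr⟩ := h.outside hu hm ht hx hxu
  obtain ⟨c1, hc1⟩ := h.conj_mixed hg hm hmx
  have huN : u ∈ normalizer (cent x : Set G) := normalizer_of_mod (comm_mem_symm (hu.2.2.2 x hx))
  have hxN : x ∈ normalizer (cent x : Set G) := le_normalizer (self_mem x)
  -- a Sylow subgroup of the normaliser through `u` and `x`
  set N := normalizer (cent x : Set G) with hN
  have hR1 : ∀ y ∈ (R : Subgroup G), c1 * y * c1⁻¹ ∈ N := fun y hy => by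
    have h1 : ⁅c1 * y * c1⁻¹, c1 * u * c1⁻¹⁆ ∈ center G := by
      rw [← conjugate_commutatorElement]
      exact (inferInstance : (center G).Normal).conj_mem _ (hu.2.2.2 y hy) c1
    have := normalizer_of_mod h1
    rwa [hc1] at this
  set S1 := (R : Subgroup G).map (MulAut.conj c1).toMonoidHom with hS1
  have hS1N : S1 ≤ N := by rintro _ ⟨y, hy, rfl⟩; exact hR1 y hy
  set L := (R : Subgroup G) ⊓ N with hL
  have hS1c : Nat.card (S1.subgroupOf N) = cp r (⊤ : Subgroup ↥N) := by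
    refine le_antisymm (card_le_cp ((R.2.map _).comap_of_injective _ N.subtype_injective) le_top) ?_
    rw [Nat.card_congr (subgroupOfEquivOfLe hS1N).toEquiv, hS1,
      card_map_of_injective (MulAut.conj c1).injective, card_sylow R, cp, cp, Subgroup.card_top,
      Subgroup.card_top]
    exact Nat.pow_le_pow_right hr.out.pos ((Nat.factorization_le_iff_dvd Nat.card_pos.ne'
      Nat.card_pos.ne').2 (card_subgroup_dvd_card N) r)
  obtain ⟨⟨n, hn⟩, hnL⟩ := exists_conj_mem hS1c (R := L.subgroupOf N)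
    ((R.2.to_le inf_le_left).comap_of_injective _ N.subtype_injective)
  set c := n⁻¹ * c1 with hc
  let R' : Sylow r G := R.mapSurjective (f := (MulAut.conj c).toMonoidHom) (MulAut.conj c).surjective
  have hR' : (R' : Subgroup G) = (R : Subgroup G).map (MulAut.conj c).toMonoidHom := rfl
  have hin : ∀ y ∈ (R : Subgroup G), y ∈ N → y ∈ (R' : Subgroup G) := fun y hy hyN => by
    have h1 := hnL ⟨y, hyN⟩ (mem_subgroupOf.2 ⟨hy, hyN⟩)
    obtain ⟨t, ht', hte⟩ := mem_subgroupOf.1 h1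
    refine ⟨t, ht', ?_⟩
    simp only [MulEquiv.coe_toMonoidHom, MulAut.conj_apply, Subgroup.coe_mul,
      InvMemClass.coe_inv] at hte ⊢
    calc c * t * c⁻¹ = n⁻¹ * (c1 * t * c1⁻¹) * n := by rw [hc]; group
      _ = y := by rw [hte]; group
  set u' := c * u * c⁻¹ with hu'
  have hu'x : cent u' = cent x := by
    rw [hu', show c * u * c⁻¹ = n⁻¹ * (c1 * u * c1⁻¹) * n⁻¹⁻¹ by rw [hc]; group, cent_conj, hc1,
      ← PLocal.mem_normalizer_iff_map_eq]
    exact inv_mem hn
  have hu'O : Omega R' u' := by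
    refine ⟨⟨u, hu.1, rfl⟩, fun hz => hu.2.1 (conj_mem_center.1 hz), ?_, ?_⟩
    · rw [hu', conj_pow, conj_mem_center]; exact hu.2.2.1
    · rintro _ ⟨y, hy, rfl⟩
      rw [hu', MulEquiv.coe_toMonoidHom, MulAut.conj_apply, ← conjugate_commutatorElement]
      exact (inferInstance : (center G).Normal).conj_mem _ (hu.2.2.2 y hy) c
  have huR' : u ∈ (R' : Subgroup G) := hin u hu.1 huN
  have hxR' : x ∈ (R' : Subgroup G) := hin x hx hxN
  have huu' : u ∉ cent u' := fun he => hxu (by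
    rw [h.cent_eq (h.omega_mixed hg hrp hu'O) he hu.2.1, hu'x]; exact self_mem x)
  -- the small lemma
  let E : Subgroup G :=
    { carrier := {d | d ∈ (R' : Subgroup G) ⊓ cent u' ∧ ⁅d, u⁆ ∈ center G}
      one_mem' := ⟨one_mem _, by rw [commutatorElement_one_left]; exact one_mem _⟩
      mul_mem' := fun {a b} ha hb => ⟨mul_mem ha.1 hb.1, by rw [comm_mul_left hb.2]; exact mul_mem ha.2 hb.2⟩
      inv_mem' := fun {a} ha => ⟨inv_mem ha.1, comm_mem_iff.2 (by
        rw [QuotientGroup.mk_inv]; exact (comm_mem_iff.1 ha.2).inv_left)⟩ }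
  have hEle := h.small hu'O (h.omega_mixed hg hrp hu'O) ht huR' huu' (E := E) (fun d hd => hd.1)
    fun d hd => hd.2
  have hxE : x ∈ E := ⟨⟨hxR', hu'x ▸ self_mem x⟩, hu.2.2.2 x hx⟩
  have hu'E : u' ∈ E := ⟨⟨hu'O.1, self_mem u'⟩, comm_mem_symm (hu'O.2.2.2 u huR')⟩
  have hbarE : Nat.card (bar E) ≤ r := by
    have hz : cp r (center G) ≤ Nat.card ↥(E ⊓ center G) := by
      rw [← card_inf_center R']
      exact card_le_of_le fun y hy =>
        ⟨⟨⟨hy.1, center_le_cent u' hy.2⟩, comm_mem_of_commute (mem_center_iff.1 hy.2 u).symm⟩, hy.2⟩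
    have h1 := card_bar_mul E
    exact Nat.le_of_mul_le_mul_right ((Nat.mul_le_mul_left _ hz).trans (h1.le.trans hEle)) (cp_pos _)
  have key : ∀ y ∈ E, y ∉ center G → y ^ r ∈ center G → zpowers (y : G ⧸ center G) = bar E := by
    intro y hy hyz hyr
    refine eq_of_le_of_card_ge (zpowers_le.2 (mem_bar hy)) ?_
    rw [Nat.card_zpowers, orderOf_eq_prime (by rw [← QuotientGroup.mk_pow]; exact mk_eq_one.2 hyr)
      fun e => hyz (mk_eq_one.1 e)]
    exact hbarE
  have hline : zpowers (u' : G ⧸ center G) = zpowers (x : G ⧸ center G) :=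
    (key u' hu'E hu'O.2.1 hu'O.2.2.1).trans (key x hxE hmx.1 hxr).symm
  refine ⟨c, R', hR', huR', ⟨hxR', hmx.1, hxr, fun y hy => ?_⟩, hu'x, hu'x ▸ huu', hline⟩
  obtain ⟨k, hk⟩ := mem_zpowers_iff.1 (hline.ge (mem_zpowers _))
  refine comm_mem_iff.2 ?_
  rw [← hk]
  exact (comm_mem_iff.1 (hu'O.2.2.2 y hy)).zpow_right k

theorem FHyp.pair {R : Sylow r G} {u x : G} (hu : Omega R u) (hx : x ∈ (R : Subgroup G)) (hxu : x ∉ cent u) :
    Pair r (u : G ⧸ center G) (x : G ⧸ center G) := by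
  obtain ⟨hmx, hxr⟩ := h.outside hu (h.omega_mixed hg hrp hu) (h.tame_of_primary hg hr.out hrp) hx hxu
  refine ⟨(comm_mem_iff.1 (hu.2.2.2 x hx)).symm, by rw [← QuotientGroup.mk_pow]; exact mk_eq_one.2 hu.2.2.1,
    by rw [← QuotientGroup.mk_pow]; exact mk_eq_one.2 hxr, fun i j e => ?_⟩
  rw [← QuotientGroup.mk_pow, ← QuotientGroup.mk_pow, ← QuotientGroup.mk_mul, mk_eq_one] at e
  have hj : r ∣ j := by
    by_contra hj
    refine hxu (Coprime.mem_of_pow_mem (H := cent u) (n := j)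
      (IsElt.coprime_order hr.out (isElt_of_mem R.2 hx) hj) ?_)
    have := Subgroup.mul_mem (cent u) (inv_mem (pow_mem (self_mem u) i)) (center_le_cent u e)
    rwa [inv_mul_cancel_left] at this
  refine ⟨?_, hj⟩
  by_contra hi
  refine hu.2.1 (Coprime.mem_of_pow_mem (H := center G) (n := i)
    (IsElt.coprime_order hr.out (isElt_of_mem R.2 hu.1) hi) ?_)
  obtain ⟨l, rfl⟩ := hj
  have h1 : (x ^ (r * l)) ∈ center G := by rw [pow_mul]; exact pow_mem hxr l
  have := mul_mem e (inv_mem h1)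
  rwa [mul_inv_cancel_right] at this

/-- Elements of `D` commuting with `x` modulo the centre lie in the line of `u`. -/
theorem FHyp.mem_line {R : Sylow r G} {u x : G} (hu : Omega R u) (hx : x ∈ (R : Subgroup G))
    (hxu : x ∉ cent u) {d : G} (hd : d ∈ (R : Subgroup G) ⊓ cent u) (hdx : ⁅d, x⁆ ∈ center G) :
    (d : G ⧸ center G) ∈ zpowers (u : G ⧸ center G) := by
  let E : Subgroup G :=
    { carrier := {d | d ∈ (R : Subgroup G) ⊓ cent u ∧ ⁅d, x⁆ ∈ center G}
      one_mem' := ⟨one_mem _, by rw [commutatorElement_one_left]; exact one_mem _⟩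
      mul_mem' := fun {a b} ha hb => ⟨mul_mem ha.1 hb.1, by rw [comm_mul_left hb.2]; exact mul_mem ha.2 hb.2⟩
      inv_mem' := fun {a} ha => ⟨inv_mem ha.1, comm_mem_iff.2 (by
        rw [QuotientGroup.mk_inv]; exact (comm_mem_iff.1 ha.2).inv_left)⟩ }
  have hm := h.omega_mixed hg hrp hu
  have hEle := h.small hu hm (h.tame_of_primary hg hr.out hrp) hx hxu (E := E) (fun d hd => hd.1)
    fun d hd => hd.2
  have hu1 : u ∈ E := ⟨⟨hu.1, self_mem u⟩, comm_mem_symm (hu.2.2.2 x hx)⟩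
  have hz : cp r (center G) ≤ Nat.card ↥(E ⊓ center G) := by
    rw [← card_inf_center R]
    exact card_le_of_le fun y hy =>
      ⟨⟨⟨hy.1, center_le_cent u hy.2⟩, comm_mem_of_commute (mem_center_iff.1 hy.2 x).symm⟩, hy.2⟩
  have hbarE : Nat.card (bar E) ≤ r :=
    Nat.le_of_mul_le_mul_right ((Nat.mul_le_mul_left _ hz).trans ((card_bar_mul E).le.trans hEle)) (cp_pos _)
  have : zpowers (u : G ⧸ center G) = bar E := by
    refine eq_of_le_of_card_ge (zpowers_le.2 (mem_bar hu1)) ?_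
    rw [Nat.card_zpowers, orderOf_eq_prime (by rw [← QuotientGroup.mk_pow]; exact mk_eq_one.2 hu.2.2.1)
      fun e => hu.2.1 (mk_eq_one.1 e)]
    exact hbarE
  exact this ▸ mem_bar ⟨hd, hdx⟩

theorem FHyp.split {R : Sylow r G} {u x : G} (hu : Omega R u) (hx : x ∈ (R : Subgroup G))
    (hxu : x ∉ cent u) {y : G} (hy : y ∈ (R : Subgroup G)) :
    ∃ d ∈ (R : Subgroup G) ⊓ cent u, ∃ k ∈ zpowers x, y = d * k := by
  set D := (R : Subgroup G) ⊓ cent u with hD
  have hm := h.omega_mixed hg hrp hu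
  have hc := h.card_bad hu hm fun hle => hxu (hle hx)
  have hn : zpowers x ≤ normalizer (D : Set G) :=
    zpowers_le.2 ((normal_of_index R.2 inf_le_left hc).1 hx)
  have htop : D ⊔ zpowers x = (R : Subgroup G) := by
    refine eq_of_le_of_card_ge (sup_le inf_le_left (zpowers_le.2 hx)) ?_
    rw [hc]
    exact mul_card_le (R.2.to_le (sup_le inf_le_left (zpowers_le.2 hx)))
      (lt_of_le_of_ne le_sup_left fun e => hxu (e.ge (mem_sup_right (mem_zpowers x))).2)
  rw [← htop, ← SetLike.mem_coe, Subgroup.coe_mul_of_right_le_normalizer_left D (zpowers x) hn] at hy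
  obtain ⟨d, hd, k, hk, e⟩ := hy
  exact ⟨d, hd, k, hk, e.symm⟩

/-- Inner moves, when `R` is larger than the plane. -/
theorem FHyp.moves {R : Sylow r G} {u x : G} (hu : Omega R u) (hx : x ∈ (R : Subgroup G))
    (hxu : x ∉ cent u) (hne : ¬ bar (R : Subgroup G) ≤ plane (u : G ⧸ center G) x) :
    ∀ i : ℕ, ∃ m ∈ normalizer (plane (u : G ⧸ center G) x : Set (G ⧸ center G)),
      m * (x : G ⧸ center G) * m⁻¹ = (x : G ⧸ center G) * (u : G ⧸ center G) ^ i := by
  classical
  have hP := h.pair hg hrp hu hx hxu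
  set P := plane (u : G ⧸ center G) x with hPdef
  have hupl : (u : G ⧸ center G) ∈ P := mem_sup_left (mem_zpowers _)
  have hxpl : (x : G ⧸ center G) ∈ P := mem_sup_right (mem_zpowers _)
  set E0 := (R : Subgroup G) ⊓ P.comap (QuotientGroup.mk' (center G)) with hE0
  have hE0R : E0 < (R : Subgroup G) := lt_of_le_of_ne inf_le_left fun e => hne (by
    rintro _ ⟨y, hy, rfl⟩
    exact (e.ge hy).2)
  obtain ⟨y, hy, hyE, hyn⟩ := exists_normalizing R.2 hE0R
  obtain ⟨d, hd, k, hk, rfl⟩ := h.split hg hrp hu hx hxu hy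
  have hkE : k ∈ E0 := zpowers_le.2 (show x ∈ E0 from ⟨hx, hxpl⟩) hk
  have hdn : d ∈ normalizer (E0 : Set G) := by
    have := mul_mem hyn (inv_mem (le_normalizer hkE))
    rwa [mul_inv_cancel_right] at this
  have hdE : d ∉ E0 := fun hdE => hyE (mul_mem hdE hkE)
  -- `d` moves `x` along `u`
  have h1 : d * x * d⁻¹ ∈ E0 := (mem_normalizer_iff.1 hdn x).1 ⟨hx, hxpl⟩
  have h2 : ⁅d, x⁆ ∈ (R : Subgroup G) ⊓ cent u := by
    have hnD := (normal_of_index R.2 inf_le_left
      (h.card_bad hu (h.omega_mixed hg hrp hu) fun hle => hxu (hle hx))).1 hx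
    have := mul_mem hd ((mem_normalizer_iff.1 hnD _).1 (inv_mem hd))
    rwa [commutatorElement_def, show d * x * d⁻¹ * x⁻¹ = d * (x * d⁻¹ * x⁻¹) by group]
  have h3 : (⁅d, x⁆ : G) ∈ E0 := by
    rw [commutatorElement_def]; exact mul_mem h1 (inv_mem ⟨hx, hxpl⟩)
  have h4 : (((⁅d, x⁆ : G)) : G ⧸ center G) ∈ zpowers (u : G ⧸ center G) := by
    refine h.mem_line hg hrp hu hx hxu h2 (comm_mem_iff.2 ?_)
    obtain ⟨i, j, e⟩ := (mem_plane hP).1 h3.2
    rw [show (((⁅d, x⁆ : G)) : G ⧸ center G) = QuotientGroup.mk' (center G) ⁅d, x⁆ from rfl, ← e]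
    exact ((hP.comm.pow_left i)).mul_left ((Commute.refl _).pow_left j)
  obtain ⟨j, hj⟩ : ∃ j : ℕ, (u : G ⧸ center G) ^ j = ((⁅d, x⁆ : G) : G ⧸ center G) := by
    obtain ⟨j, -, hj⟩ := Finset.mem_image.1 (mem_zpowers_iff_mem_range_orderOf.1 h4)
    exact ⟨j, hj⟩
  set dq := (d : G ⧸ center G) with hdq
  have hcu : Commute dq (u : G ⧸ center G) := comm_mem_iff.1 (hu.2.2.2 d hd.1)
  have hmv : dq * (x : G ⧸ center G) * dq⁻¹ = (x : G ⧸ center G) * (u : G ⧸ center G) ^ j := by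
    rw [← (hP.comm.pow_left j).eq, hj, hdq, ← QuotientGroup.mk_inv, ← QuotientGroup.mk_mul,
      ← QuotientGroup.mk_mul, ← QuotientGroup.mk_mul]
    congr 1
    rw [commutatorElement_def, inv_mul_cancel_right]
  have hjr : (j : ZMod r) ≠ 0 := by
    intro e
    rw [(hP.pow_mod (i := j) (j := 0) (by simpa using e)).1, pow_zero, mul_one,
      mul_inv_eq_iff_eq_mul] at hmv
    refine hdE ⟨hd.1, ?_⟩
    exact zpowers_le.2 hupl (h.mem_line hg hrp hu hx hxu hd (comm_mem_iff.2 hmv))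
  have hdN : dq ∈ normalizer (P : Set (G ⧸ center G)) := by
    refine Coprime.mem_normalizer_of_forall fun v hv => ?_
    obtain ⟨a, b, rfl⟩ := (mem_plane hP).1 hv
    rw [show dq * ((u : G ⧸ center G) ^ a * (x : G ⧸ center G) ^ b) * dq⁻¹ =
      (dq * (u : G ⧸ center G) * dq⁻¹) ^ a * (dq * (x : G ⧸ center G) * dq⁻¹) ^ b by
        rw [conj_pow, conj_pow]; group, hcu.eq, mul_inv_cancel_right, hmv]
    exact mul_mem (pow_mem hupl a) (pow_mem (mul_mem hxpl (pow_mem hupl j)) b)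
  have hpow : ∀ k : ℕ, dq ^ k * (x : G ⧸ center G) * (dq ^ k)⁻¹ =
      (x : G ⧸ center G) * (u : G ⧸ center G) ^ (j * k) := by
    intro k
    induction k with
    | zero => simp
    | succ k ih =>
      rw [pow_succ', mul_inv_rev, show dq * dq ^ k * (x : G ⧸ center G) * ((dq ^ k)⁻¹ * dq⁻¹) =
        dq * (dq ^ k * (x : G ⧸ center G) * (dq ^ k)⁻¹) * dq⁻¹ by group, ih,
        show dq * ((x : G ⧸ center G) * (u : G ⧸ center G) ^ (j * k)) * dq⁻¹ =
          (dq * (x : G ⧸ center G) * dq⁻¹) * (dq * (u : G ⧸ center G) * dq⁻¹) ^ (j * k) by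
            rw [conj_pow]; group, hmv, hcu.eq, mul_inv_cancel_right, mul_assoc, ← pow_add,
        Nat.mul_succ, Nat.add_comm]
  intro i
  refine ⟨dq ^ ((i : ZMod r) * (j : ZMod r)⁻¹).val, pow_mem hdN _, ?_⟩
  rw [hpow, (hP.pow_mod (j := i) ?_).1]
  push_cast [ZMod.natCast_zmod_val]
  rw [mul_comm (j : ZMod r), mul_assoc, inv_mul_cancel₀ hjr, mul_one]

/-- An odd prime other than `p` is good. -/
theorem FHyp.good (hodd : r ≠ 2) {R : Sylow r G} {u : G} (hu : Omega R u) :
    (R : Subgroup G) ≤ cent u := by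
  by_contra hRu
  obtain ⟨x, hx, hxu⟩ := SetLike.not_le_iff_exists.1 hRu
  have hm := h.omega_mixed hg hrp hu
  have ht := h.tame_of_primary hg hr.out hrp
  have hP := h.pair hg hrp hu hx hxu
  obtain ⟨hmx, hxr⟩ := h.outside hu hm ht hx hxu
  set ub : G ⧸ center G := (u : G ⧸ center G) with hub
  set xb : G ⧸ center G := (x : G ⧸ center G) with hxb
  set P := plane ub xb with hPdef
  -- transitivity on lines
  have hlines : (∀ i : ℕ, ∃ m ∈ normalizer (P : Set (G ⧸ center G)), m * xb * m⁻¹ ∈ zpowers (xb * ub ^ i)) ∧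
      ∃ m ∈ normalizer (P : Set (G ⧸ center G)), m * xb * m⁻¹ ∈ zpowers ub := by
    by_cases hsm : bar (R : Subgroup G) ≤ P
    · have hPR : P ≤ bar (R : Subgroup G) :=
        sup_le (zpowers_le.2 (mem_bar hu.1)) (zpowers_le.2 (mem_bar hx))
      have hto : ∀ i : ℕ, ∃ m ∈ normalizer (P : Set (G ⧸ center G)),
          zpowers (m * ub * m⁻¹) = zpowers (xb * ub ^ i) := by
        intro i
        set x1 := x * u ^ i with hx1
        have hx1R : x1 ∈ (R : Subgroup G) := Subgroup.mul_mem _ hx (pow_mem hu.1 i)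
        have hx1u : x1 ∉ cent u := fun hc => hxu (by
          have := mul_mem hc (inv_mem (pow_mem (self_mem u) i))
          rwa [hx1, mul_inv_cancel_right] at this)
        obtain ⟨c, R', hR', huR', hxO, -, -, hl⟩ := h.line hg hrp hu hx1R hx1u
        have hxR' : x ∈ (R' : Subgroup G) := by
          have := Subgroup.mul_mem _ hxO.1 (inv_mem (pow_mem huR' i))
          rwa [hx1, mul_inv_cancel_right] at this
        have hle : (R : Subgroup G) ≤ R' := by
          intro y hy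
          obtain ⟨a, b, e⟩ := (mem_plane hP).1 (hsm (mem_bar hy))
          rw [hub, hxb, ← QuotientGroup.mk_pow, ← QuotientGroup.mk_pow, ← QuotientGroup.mk_mul,
            QuotientGroup.eq] at e
          have h1 : u ^ a * x ^ b ∈ (R : Subgroup G) := mul_mem (pow_mem hu.1 a) (pow_mem hx b)
          have h2 := center_mem_sylow R' (isElt_of_mem R.2 (mul_mem (inv_mem h1) hy)) e
          have := mul_mem (mul_mem (pow_mem huR' a) (pow_mem hxR' b)) h2
          rwa [mul_inv_cancel_left] at this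
        have hRR : (R : Subgroup G) = R' := eq_of_le_of_card_ge hle (by
          rw [hR', card_map_of_injective (MulAut.conj c).injective])
        refine ⟨(c : G ⧸ center G), ?_, ?_⟩
        · rw [le_antisymm hPR hsm]
          refine Coprime.mem_normalizer_of_forall ?_
          rintro _ ⟨y, hy, rfl⟩
          refine ⟨c * y * c⁻¹, ?_, by simp⟩
          rw [SetLike.mem_coe, hRR, hR']
          exact ⟨y, hy, rfl⟩
        · rw [hub, hxb, ← QuotientGroup.mk_inv, ← QuotientGroup.mk_mul, ← QuotientGroup.mk_mul,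
            ← QuotientGroup.mk_pow, ← QuotientGroup.mk_mul]
          exact hl
      obtain ⟨m0, hm0, hm0e⟩ := hto 0
      rw [pow_zero, mul_one] at hm0e
      obtain ⟨k, hk⟩ := mem_zpowers_iff.1 (hm0e.ge (mem_zpowers xb))
      refine ⟨fun i => ?_, m0⁻¹, inv_mem hm0, mem_zpowers_iff.2 ⟨k, ?_⟩⟩
      · obtain ⟨m, hmn, hme⟩ := hto i
        refine ⟨m * m0⁻¹, mul_mem hmn (inv_mem hm0), ?_⟩
        rw [← hme]
        refine mem_zpowers_iff.2 ⟨k, ?_⟩
        rw [← hk, conj_zpow, conj_zpow]; group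
      · rw [← hk, conj_zpow]; group
    · have hmv := h.moves hg hrp hu hx hxu hsm
      refine ⟨fun i => ?_, ?_⟩
      · obtain ⟨m, hmn, hme⟩ := hmv i
        exact ⟨m, hmn, hme ▸ mem_zpowers _⟩
      obtain ⟨c, R', hR', huR', hxO, -, hux, -⟩ := h.line hg hrp hu hx hxu
      have hPeq : plane xb ub = P := sup_comm _ _
      have hsm' : ¬ bar (R' : Subgroup G) ≤ plane xb ub := by
        intro hle
        rw [hPeq] at hle
        have hPR : P ≤ bar (R : Subgroup G) :=
          sup_le (zpowers_le.2 (mem_bar hu.1)) (zpowers_le.2 (mem_bar hx))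
        have e1 := card_bar_mul (R : Subgroup G)
        have e2 := card_bar_mul (R' : Subgroup G)
        rw [card_inf_center] at e1 e2
        have hcRR : Nat.card R' = Nat.card R :=
          (card_sylow R').trans (card_sylow R).symm
        rw [hcRR, ← e1] at e2
        exact hsm (eq_of_le_of_card_ge hPR
          ((Nat.eq_of_mul_eq_mul_right (cp_pos _) e2).ge.trans (card_le_of_le hle))).ge
      obtain ⟨m1, hm1, hm1e⟩ := h.moves hg hrp hxO huR' hux hsm' 1
      rw [← hub, ← hxb, pow_one] at hm1e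
      change m1 ∈ normalizer (plane xb ub : Set (G ⧸ center G)) at hm1
      rw [hPeq] at hm1
      obtain ⟨m2, hm2, hm2e⟩ := hmv 1
      rw [← hub, ← hxb, pow_one] at hm2e
      refine ⟨m1⁻¹ * m2, mul_mem (inv_mem hm1) hm2, ?_⟩
      have e : m1⁻¹ * m2 * xb * (m1⁻¹ * m2)⁻¹ = ub := by
        rw [show m1⁻¹ * m2 * xb * (m1⁻¹ * m2)⁻¹ = m1⁻¹ * (m2 * xb * m2⁻¹) * m1 by group, hm2e,
          ← hP.comm.eq, ← hm1e]
        group
      rw [e]; exact mem_zpowers ub
  obtain ⟨m, hmN, hm2, hmC, hmmC⟩ := exists_two_elt hodd hP hlines.1 hlines.2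
  -- a `2`-element of `G`
  obtain ⟨g, rfl⟩ := QuotientGroup.mk_surjective m
  obtain ⟨i, o, hgio, -, hig, -, hi, ho⟩ := exists_parts Nat.prime_two g
  haveI : Fact (Nat.Prime 2) := ⟨Nat.prime_two⟩
  have hgi : (g : G ⧸ center G) = i := by
    have h1 : (o : G ⧸ center G) = 1 := by
      refine eq_one_of_isElt (q := 2) ?_ fun hd =>
        ho (hd.trans (orderOf_map_dvd (QuotientGroup.mk' (center G)) o))
      obtain ⟨k, hk⟩ := mem_zpowers_iff.1 hig
      refine isElt_of_zpowers (g := (g : G ⧸ center G)) ?_ hm2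
      rw [show o = i⁻¹ * g by rw [hgio, inv_mul_cancel_left], QuotientGroup.mk_mul, QuotientGroup.mk_inv, ← hk,
        QuotientGroup.mk_zpow]
      exact mul_mem (inv_mem (zpow_mem (mem_zpowers _) k)) (mem_zpowers _)
    rw [hgio, QuotientGroup.mk_mul, h1, mul_one]
  rw [hgi] at hmN hmC hmmC
  set ib : G ⧸ center G := (i : G ⧸ center G) with hib
  have hupl : ub ∈ P := mem_sup_left (mem_zpowers _)
  have hxpl : xb ∈ P := mem_sup_right (mem_zpowers _)
  obtain ⟨α, β, hiu⟩ := (mem_plane hP).1 ((mem_normalizer_iff.1 hmN ub).1 hupl)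
  obtain ⟨γ, δ, hix⟩ := (mem_plane hP).1 ((mem_normalizer_iff.1 hmN xb).1 hxpl)
  -- the image of a product of powers
  have himg : ∀ a b : ℕ, ib * (ub ^ a * xb ^ b) * ib⁻¹ = ub ^ (α * a + γ * b) * xb ^ (β * a + δ * b) := by
    intro a b
    rw [show ib * (ub ^ a * xb ^ b) * ib⁻¹ = (ib * ub * ib⁻¹) ^ a * (ib * xb * ib⁻¹) ^ b by
      rw [conj_pow, conj_pow]; group, ← hiu, ← hix, ((hP.comm.pow_left _).pow_right _).mul_pow,
      ((hP.comm.pow_left _).pow_right _).mul_pow, ← pow_mul, ← pow_mul, ← pow_mul, ← pow_mul, pow_add, pow_add]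
    calc ub ^ (α * a) * xb ^ (β * a) * (ub ^ (γ * b) * xb ^ (δ * b))
        = ub ^ (α * a) * (xb ^ (β * a) * ub ^ (γ * b)) * xb ^ (δ * b) := by group
      _ = _ := by rw [← ((hP.comm.pow_left _).pow_right _).eq]; group
  have hsq : ∀ v ∈ P, ib * (ib * v * ib⁻¹) * ib⁻¹ = v := fun v hv => by
    rw [show ib * (ib * v * ib⁻¹) * ib⁻¹ = ib * ib * v * (ib * ib)⁻¹ by group,
      ← mem_centralizer_iff.1 hmmC v hv, mul_inv_cancel_right]
  have q1 := hsq ub hupl
  rw [← hiu, himg] at q1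
  obtain ⟨q1a, q1b⟩ := hP.eq_mod (i' := 1) (j' := 0) (q1.trans (by simp))
  have q2 := hsq xb hxpl
  rw [← hix, himg] at q2
  obtain ⟨q2a, q2b⟩ := hP.eq_mod (i' := 0) (j' := 1) (q2.trans (by simp))
  push_cast at q1a q1b q2a q2b
  -- the determinant
  have hex : ⁅x, u⁆ ∈ center G := hu.2.2.2 x hx
  set e := ⁅x, u⁆ with he
  have heo : orderOf e = r := by
    refine orderOf_eq_prime ?_ fun e1 => hxu (mem_cent.2 (commutatorElement_eq_one_iff_mul_comm.1 e1))
    rw [he, ← comm_pow_right hex, commutatorElement_eq_one_iff_mul_comm]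
    exact mem_center_iff.1 hu.2.2.1 x
  obtain ⟨z1, hz1, hiu'⟩ : ∃ z1 ∈ center G, i * u * i⁻¹ = u ^ α * x ^ β * z1 := by
    refine ⟨(u ^ α * x ^ β)⁻¹ * (i * u * i⁻¹), ?_, by rw [mul_inv_cancel_left]⟩
    rw [← QuotientGroup.eq]
    simpa using hiu
  obtain ⟨z2, hz2, hix'⟩ : ∃ z2 ∈ center G, i * x * i⁻¹ = u ^ γ * x ^ δ * z2 := by
    refine ⟨(u ^ γ * x ^ δ)⁻¹ * (i * x * i⁻¹), ?_, by rw [mul_inv_cancel_left]⟩
    rw [← QuotientGroup.eq]
    simpa using hix
  have hux' : ⁅u, x⁆ = e⁻¹ := by rw [he, commutatorElement_inv]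
  have hl1 : ∀ a b c d : ℕ, ⁅u ^ a * x ^ b, u ^ c * x ^ d⁆ = e ^ (b * c) * (e ^ (a * d))⁻¹ := by
    intro a b c d
    have cu : ∀ k, ⁅u ^ k, x⁆ = (e ^ k)⁻¹ := fun k => by
      rw [comm_pow_left (by rw [hux']; exact inv_mem hex), hux', inv_pow]
    have cx : ∀ k, ⁅x ^ k, u⁆ = e ^ k := fun k => comm_pow_left hex k
    have c0 : ∀ k l, ⁅u ^ k, u ^ l⁆ = 1 ∧ ⁅x ^ k, x ^ l⁆ = 1 := fun k l =>
      ⟨commutatorElement_eq_one_iff_mul_comm.2 ((Commute.refl u).pow_pow k l).eq,
        commutatorElement_eq_one_iff_mul_comm.2 ((Commute.refl x).pow_pow k l).eq⟩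
    have cux : ∀ k l, ⁅u ^ k, x ^ l⁆ = (e ^ (k * l))⁻¹ := fun k l => by
      rw [comm_pow_right (by rw [cu]; exact inv_mem (pow_mem hex k)), cu, inv_pow, ← pow_mul]
    have cxu : ∀ k l, ⁅x ^ k, u ^ l⁆ = e ^ (k * l) := fun k l => by
      rw [comm_pow_right (by rw [cx]; exact pow_mem hex k), cx, ← pow_mul]
    have hstep : ∀ k, k ∈ center G → ⁅u ^ c * x ^ d, k⁆ = 1 := fun k hk =>
      commutatorElement_eq_one_iff_mul_comm.2 (mem_center_iff.1 hk _)
    have h1 : ⁅x ^ b, u ^ c * x ^ d⁆ = e ^ (b * c) := by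
      rw [← commutatorElement_inv (u ^ c * x ^ d), comm_mul_left (by rw [(c0 d b).2]; exact one_mem _),
        (c0 d b).2, mul_one, cux, inv_inv, mul_comm]
    have h2 : ⁅u ^ a, u ^ c * x ^ d⁆ = (e ^ (a * d))⁻¹ := by
      rw [← commutatorElement_inv (u ^ c * x ^ d), comm_mul_left (by rw [cxu]; exact pow_mem hex _),
        (c0 c a).1, one_mul, cxu, mul_comm]
    rw [comm_mul_left (by rw [h1]; exact pow_mem hex _), h1, h2]
    exact mem_center_iff.1 (pow_mem hex _) _
  have hdet : (α : ZMod r) * δ - (β : ZMod r) * γ = 1 := by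
    have h1 : ⁅i * u * i⁻¹, i * x * i⁻¹⁆ = e⁻¹ := by
      rw [← conjugate_commutatorElement, hux', mem_center_iff.1 (inv_mem hex) i, mul_inv_cancel_right]
    rw [hiu', hix', comm_mul_central_left hz1, comm_mul_central_right hz2, hl1, mul_inv_eq_iff_eq_mul,
      eq_inv_mul_iff_mul_eq, ← pow_succ', pow_eq_pow_iff_modEq, heo, ← ZMod.natCast_eq_natCast_iff] at h1
    push_cast at h1
    linear_combination -h1
  have hne : ¬ ((α : ZMod r) = 1 ∧ (β : ZMod r) = 0 ∧ (γ : ZMod r) = 0 ∧ (δ : ZMod r) = 1) := by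
    rintro ⟨e1, e2, e3, e4⟩
    refine hmC (mem_centralizer_iff.2 fun v hv => ?_)
    obtain ⟨a, b, rfl⟩ := (mem_plane hP).1 hv
    have h1 := himg a b
    rw [(hP.pow_mod (i := α * a + γ * b) (j := a) (by push_cast; rw [e1, e3]; ring)).1,
      (hP.pow_mod (i := β * a + δ * b) (j := b) (by push_cast; rw [e2, e4]; ring)).2,
      mul_inv_eq_iff_eq_mul] at h1
    exact h1.symm
  obtain ⟨hα, hβ, hγ, hδ⟩ := neg_one_of_sq hodd (α := (α : ZMod r)) (β := β) (γ := γ) (δ := δ)
    (by linear_combination q1a) (by linear_combination q1b) (by linear_combination q2a)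
    (by linear_combination q2b) hdet hne
  have hinvu : ib * ub * ib⁻¹ = ub⁻¹ := by
    rw [← hiu, (hP.pow_mod (i := β) (j := 0) (by simpa using hβ)).2, pow_zero, mul_one]
    refine eq_inv_of_mul_eq_one_left ?_
    rw [← pow_succ, (hP.pow_mod (i := α + 1) (j := 0) (by push_cast; rw [hα]; ring)).1, pow_zero]
  have hinvx : ib * xb * ib⁻¹ = xb⁻¹ := by
    rw [← hix, (hP.pow_mod (i := γ) (j := 0) (by simpa using hγ)).1, pow_zero, one_mul]
    refine eq_inv_of_mul_eq_one_left ?_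
    rw [← pow_succ, (hP.pow_mod (i := δ + 1) (j := 0) (by push_cast; rw [hδ]; ring)).2, pow_zero]
  -- `i` inverts `cent u` modulo the centre
  have hiN : i ∈ normalizer (cent u : Set G) :=
    normalizer_of_fix rfl ((cent_eq_of_mk_eq (b := u⁻¹) (by simpa using hinvu)).trans (cent_inv u))
  have hiA : i ∉ cent u := fun hc => hu.2.1 (by
    have h1 : Commute ib ub := comm_mem_iff.1 (comm_mem_of_commute (mem_cent.1 hc))
    rw [h1.eq, mul_inv_cancel_right, eq_inv_iff_mul_eq_one, ← pow_two] at hinvu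
    refine Coprime.mem_of_pow_mem (H := center G) (n := 2) ?_ (mk_eq_one.1 (by simpa using hinvu))
    exact IsElt.coprime_order hr.out (isElt_of_mem R.2 hu.1)
      fun hd => hodd ((Nat.prime_dvd_prime_iff_eq hr.out Nat.prime_two).1 hd))
  have hi2 : ∀ v : G, v ∈ ({u, x} : Set G) → i * i ∈ cent v := by
    intro v hv
    have hvR : IsElt r v := by rcases hv with rfl | rfl
                               · exact isElt_of_mem R.2 hu.1
                               · exact isElt_of_mem R.2 hx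
    have hvP : (v : G ⧸ center G) ∈ P := by rcases hv with rfl | rfl
                                            · exact hupl
                                            · exact hxpl
    refine mem_cent.2 (commute_of_mod hr.out hvR ?_ (comm_mem_iff.2 ?_)).eq.symm
    · intro hd
      obtain ⟨k, hk⟩ := hi
      exact hodd ((Nat.prime_dvd_prime_iff_eq hr.out Nat.prime_two).1 (hr.out.dvd_of_dvd_pow
        (hk ▸ hd.trans (orderOf_dvd_of_mem_zpowers (mul_mem (mem_zpowers i) (mem_zpowers i))))))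
    · rw [QuotientGroup.mk_mul]
      exact (mem_centralizer_iff.1 hmmC _ hvP).symm
  have hinv : ∀ w ∈ cent u, ib * (w : G ⧸ center G) * ib⁻¹ = (w : G ⧸ center G)⁻¹ := by
    intro w hw
    have hw' : i * w * i⁻¹ ∈ cent u := (mem_normalizer_iff.1 hiN w).1 hw
    set m := i * w * i⁻¹ * w with hmdef
    have hfix : i * m * i⁻¹ = m := by
      have hii : i * i * w * (i * i)⁻¹ = w := by
        rw [((h.mixed_spec hm).1 _ (hi2 u (Or.inl rfl)) w hw).eq, mul_inv_cancel_right]
      rw [hmdef, show i * (i * w * i⁻¹ * w) * i⁻¹ = i * i * w * (i * i)⁻¹ * (i * w * i⁻¹) by group, hii]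
      exact ((h.mixed_spec hm).1 w hw _ hw').eq
    have hmz : m ∈ center G := by
      by_contra hmz
      exact hiA (h.cent_eq hm (mul_mem hw' hw) hmz ▸ mem_cent.2 (mul_inv_eq_iff_eq_mul.1 hfix))
    refine eq_inv_of_mul_eq_one_left ?_
    rw [hib, ← QuotientGroup.mk_inv, ← QuotientGroup.mk_mul, ← QuotientGroup.mk_mul, ← QuotientGroup.mk_mul]
    exact mk_eq_one.2 hmz
  obtain ⟨w, hw, hwz, hwr⟩ := hm.2 r hr.out
  have hxN : x ∈ normalizer (cent u : Set G) := normalizer_of_mod (hu.2.2.2 x hx)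
  set wb : G ⧸ center G := (w : G ⧸ center G) with hwb
  have h1 := hinv (x * w * x⁻¹) ((mem_normalizer_iff.1 hxN w).1 hw)
  rw [QuotientGroup.mk_mul, QuotientGroup.mk_mul, QuotientGroup.mk_inv, ← hxb, ← hwb,
    show ib * (xb * wb * xb⁻¹) * ib⁻¹ =
      (ib * xb * ib⁻¹) * (ib * wb * ib⁻¹) * (ib * xb * ib⁻¹)⁻¹ by group, hinvx, hinv w hw] at h1
  have hcomm : Commute wb (xb * xb) := by
    have h2 : xb⁻¹ * wb * xb = xb * wb * xb⁻¹ := by
      have := congrArg (·⁻¹) h1
      simpa [mul_inv_rev, mul_assoc] using this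
    calc wb * (xb * xb) = xb * (xb⁻¹ * wb * xb) * xb := by group
      _ = xb * (xb * wb * xb⁻¹) * xb := by rw [h2]
      _ = _ := by group
  have hx2 : Commute (x * x) w := commute_of_mod hr.out
    (isElt_of_zpowers (mul_mem (mem_zpowers x) (mem_zpowers x)) (isElt_of_mem R.2 hx)) hwr
    (comm_mem_iff.2 hcomm)
  refine hxu (Coprime.mem_of_pow_mem (H := cent u) (n := 2)
    (IsElt.coprime_order hr.out (isElt_of_mem R.2 hx)
      fun hd => hodd ((Nat.prime_dvd_prime_iff_eq hr.out Nat.prime_two).1 hd)) ?_)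
  rw [pow_two]
  exact h.cent_eq hm hw hwz ▸ mem_cent.2 hx2.eq

end Cfsg.Agent.ItoSizes
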