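import Cfsg.Agent.Lib.ItoSizes.Const
import Cfsg.Agent.S4033

/-!
# Three class sizes with two comparable non-central centralisers
-/

open Subgroup
open scoped commutatorElement

namespace Cfsg.Agent.ItoSizes

open ThreeSizes

set_option linter.unusedSectionVars false

variable {G : Type*} [Group G] [Finite G]

local notation "cent" x:max => Subgroup.centralizer ({x} : Set _)

/-- The class sizes are `1 < n₂ < n₁`. -/
structure Hyp3 (G : Type*) [Group G] (n₁ n₂ : ℕ) : Prop where
  h12 : n₂ < n₁
  h2 : 1 < n₂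
  size : ∀ g : G, (cent g).index = 1 ∨ (cent g).index = n₂ ∨ (cent g).index = n₁
  ex1 : ∃ g : G, (cent g).index = n₁
  ex2 : ∃ g : G, (cent g).index = n₂

theorem Hyp3.cases {n₁ n₂ : ℕ} (h : Hyp3 G n₁ n₂) {g : G} (hg : g ∉ center G) :
    (cent g).index = n₂ ∨ (cent g).index = n₁ :=
  (h.size g).resolve_left fun e => hg (index_eq_one_iff.1 e)

theorem Hyp3.noncentral {n₁ n₂ : ℕ} (h : Hyp3 G n₁ n₂) {g : G}
    (hg : (cent g).index = n₂ ∨ (cent g).index = n₁) : g ∉ center G := fun hz => by
  rw [index_eq_one_iff.2 hz] at hg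
  have := h.h12; have := h.h2
  omega

theorem index_lt_of_lt {a b : G} (hab : cent a < cent b) : (cent b).index < (cent a).index := by
  have h1 := (cent a).card_mul_index
  have h2 := (cent b).card_mul_index
  have h3 : Nat.card (cent a) < Nat.card (cent b) :=
    (card_le_of_le hab.le).lt_of_ne fun e => hab.ne (eq_of_le_of_card_ge hab.le e.ge)
  by_contra hge
  push Not at hge
  have h4 : 0 < (cent a).index := Nat.pos_of_ne_zero index_ne_zero_of_finite
  nlinarith

/-- Primes of `k`, where `n₁ = k n₂`, lie in a pair. -/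
theorem exists_pair_of_lt {n₁ n₂ k : ℕ} (h : Hyp3 G n₁ n₂) {p : ℕ} (hp : p.Prime) {x y : G}
    (hy : IsElt p y) (hxy : cent x < cent y) (hx : (cent x).index = n₁) (hy2 : (cent y).index = n₂)
    (hk : n₁ = k * n₂) : ∃ q : ℕ, q.Prime ∧ ∀ r : ℕ, r.Prime → r ∣ k → r = p ∨ r = q := by
  haveI := Fact.mk hp
  have hyn : y ∉ center G := h.noncentral (Or.inl hy2)
  have hn2 : 0 < n₂ := by have := h.h2; omega
  -- class sizes of `p`-regular elements of `cent y`
  have hsz : ∀ w : ↥(cent y), ¬ p ∣ orderOf (w : G) → (cent w).index = 1 ∨ (cent w).index = k := by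
    intro w hw
    have he := cent_mul (mem_cent.1 w.2).symm (IsElt.coprime_order hp hy hw)
    have hidx : (cent w).index * (cent y).index = (cent (y * (w : G))).index := by
      rw [centralizer_subtype, he, inf_comm,
        ← relIndex_mul_index (inf_le_right : cent (w : G) ⊓ cent y ≤ cent y), inf_relIndex_right]
      rfl
    have hnc : y * (w : G) ∉ center G := fun hz => hyn (mem_center_of_cent.2 (top_le_iff.1 (by
      rw [← mem_center_of_cent.1 hz, he]; exact inf_le_left)))
    rw [hy2] at hidx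
    rcases h.cases hnc with e | e <;> rw [e] at hidx
    · exact Or.inl (Nat.eq_of_mul_eq_mul_right hn2 (by rw [hidx, one_mul]))
    · exact Or.inr (Nat.eq_of_mul_eq_mul_right hn2 (by rw [hidx, hk]))
  by_cases hall : ∀ w : ↥(cent y), ¬ p ∣ orderOf (w : G) → (cent w).index = 1
  · -- `k` is a power of `p`
    refine ⟨2, Nat.prime_two, fun r hr hrk => Or.inl (by_contra fun hne => ?_)⟩
    haveI := Fact.mk hr
    have hxH : x ∈ cent y := hxy.le (self_mem x)
    obtain ⟨U, hU, hUp, hUc⟩ := exists_le_card_cp r (cent y)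
    have hUx : U ≤ cent x := fun u hu => mem_cent.2 (by
      have hru : ¬ p ∣ orderOf u := (isElt_of_mem hUp hu).not_dvd hr hp hne
      have h1 := mem_center_of_cent.2 (index_eq_one.1 (hall ⟨u, hU hu⟩ hru))
      exact (congrArg Subtype.val (mem_center_iff.1 h1 ⟨x, hxH⟩)).symm)
    have h1 : cp r (cent y) = cp r (cent x) :=
      le_antisymm (hUc ▸ card_le_cp hUp hUx) (cp_mono hxy.le)
    have h2 := factorization_add r (cent y)
    have h3 := factorization_add r (cent x)
    have h4 : (Nat.card (cent y)).factorization r = (Nat.card (cent x)).factorization r :=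
      Nat.pow_right_injective hr.two_le h1
    rw [hx, hk] at h3
    rw [hy2] at h2
    have hk0 : k ≠ 0 := by rintro rfl; have := h.h12; omega
    rw [Nat.factorization_mul hk0 hn2.ne', Finsupp.add_apply] at h3
    have := hr.factorization_pos_of_dvd hk0 hrk
    omega
  push Not at hall
  obtain ⟨w₀, hw₀, hw₀k⟩ := hall
  have hk' : (cent w₀).index = k := (hsz w₀ hw₀).resolve_left hw₀k
  have hcop : ∀ w : ↥(cent y), (orderOf w).Coprime p ↔ ¬ p ∣ orderOf (w : G) := fun w => by
    rw [Subgroup.orderOf_coe, Nat.coprime_comm, hp.coprime_iff_not_dvd]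
  have h4033 : Set.ncard (Set.range fun w : {w : ↥(cent y) // (orderOf w).Coprime p} =>
      (ConjClasses.mk (w : ↥(cent y))).carrier.ncard) = 2 := by
    rw [show (Set.range fun w : {w : ↥(cent y) // (orderOf w).Coprime p} =>
      (ConjClasses.mk (w : ↥(cent y))).carrier.ncard) = {1, k} from ?_]
    · exact Set.ncard_pair (fun e => hw₀k (hk'.trans e.symm))
    ext n
    simp only [Set.mem_range, Set.mem_insert_iff, Set.mem_singleton_iff, Subtype.exists, exists_prop,
      ← Nat.card_coe_set_eq, ClassIndex.natCard_carrier_eq_index]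
    constructor
    · rintro ⟨w, hwy, hw, rfl⟩
      exact hsz ⟨w, hwy⟩ ((hcop _).1 hw)
    · rintro (rfl | rfl)
      · exact ⟨1, one_mem _, by simp, index_eq_one_iff.2 (one_mem _)⟩
      · exact ⟨w₀, w₀.2, (hcop _).2 hw₀, hk'⟩
  rcases S4033.result hp h4033 with ⟨K, hKc, hKp, j, hj⟩ | ⟨q, hqf, P, Q, A, -, hAZ, hPQ, -, hinf, hsup⟩
  · -- an abelian complement
    refine ⟨2, Nat.prime_two, fun r hr hrk => Or.inl ?_⟩
    obtain ⟨w, hw, hwk⟩ : ∃ w ∈ K, (cent w).index = k := by
      by_contra hno
      push Not at hno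
      have hKZ : K ≤ center ↥(cent y) := fun w hw => index_eq_one_iff.1
        ((hsz w fun hd => hKp ((hd.trans (Subgroup.orderOf_coe w).dvd).trans
          ((Subgroup.orderOf_mk (H := K) w hw).symm.dvd.trans (orderOf_dvd_natCard (⟨w, hw⟩ : K))))).resolve_right
          (hno w hw))
      haveI : K.Normal := ⟨fun a ha g => by
        rw [mem_center_iff.1 (hKZ ha) g, mul_inv_cancel_right]; exact ha⟩
      refine hw₀k (index_eq_one_iff.2 (hKZ ?_))
      refine (QuotientGroup.eq_one_iff (N := K) w₀).1 (orderOf_eq_one_iff.1 ?_)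
      have e1 : orderOf (w₀ : ↥(cent y) ⧸ K) ∣ orderOf w₀ := orderOf_map_dvd (QuotientGroup.mk' K) w₀
      have e2 : orderOf (w₀ : ↥(cent y) ⧸ K) ∣ p ^ j := hj ▸ orderOf_dvd_natCard _
      exact Nat.eq_one_of_dvd_coprimes (Nat.Coprime.pow_left _
        (hp.coprime_iff_not_dvd.2 (by rwa [← Subgroup.orderOf_coe]))) e2 e1
    have hKw : K ≤ cent w := fun a ha => mem_cent.2 (congrArg Subtype.val
      (mul_comm' (⟨a, ha⟩ : K) ⟨w, hw⟩))
    have : r ∣ p ^ j := hrk.trans (hwk ▸ hj ▸ index_dvd_of_le hKw)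
    exact (Nat.prime_dvd_prime_iff_eq hr hp).1 (hr.dvd_of_dvd_pow this)
  · -- `P Q × A`
    haveI := hqf
    refine ⟨q, hqf.out, fun r hr hrk => ?_⟩
    have hA : A ≤ cent w₀ := hAZ.trans (center_le_cent w₀)
    have h1 : k ∣ A.index := hk' ▸ index_dvd_of_le hA
    have h2 : A.index = Nat.card P * Nat.card Q := by
      have hn : A ≤ normalizer ((((P : Subgroup ↥(cent y)) ⊔ (Q : Subgroup ↥(cent y))) :
          Subgroup ↥(cent y)) : Set ↥(cent y)) :=
        hAZ.trans fun a ha => centralizer_le_normalizer _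
          (mem_centralizer_iff.2 fun g _ => mem_center_iff.1 ha g)
      have e := PLocal.card_sup_mul_card_inf hn
      rw [hinf, hsup, Subgroup.card_bot, mul_one, Subgroup.card_top, hPQ] at e
      have e' := A.card_mul_index
      rw [e, mul_comm (Nat.card A)] at e'
      exact Nat.eq_of_mul_eq_mul_right Nat.card_pos e'
    rw [h2] at h1
    rcases hr.dvd_mul.1 (hrk.trans h1) with e | e
    · rw [P.card_eq_multiplicity] at e
      exact Or.inl ((Nat.prime_dvd_prime_iff_eq hr hp).1 (hr.dvd_of_dvd_pow e))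
    · rw [Q.card_eq_multiplicity] at e
      exact Or.inr ((Nat.prime_dvd_prime_iff_eq hr hqf.out).1 (hr.dvd_of_dvd_pow e))

/-- Comparable non-central centralisers force solvability. -/
theorem isSolvable_of_nonF {n₁ n₂ : ℕ} (h : Hyp3 G n₁ n₂) {a b : G} (ha : a ∉ center G) (hb : b ∉ center G)
    (hab : cent a < cent b) : Group.IsSolvable G := by
  classical
  obtain ⟨p, hp, y, hym, hyz, hy⟩ := exists_primary hb
  haveI := Fact.mk hp
  have hxy : cent a < cent y := hab.trans_le (cent_le_of_mem_zpowers hym)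
  have hlt := index_lt_of_lt hxy
  have hcy := h.cases hyz
  have hca := h.cases ha
  have h12 := h.h12
  have ha1 : (cent a).index = n₁ := by omega
  have hy2 : (cent y).index = n₂ := by omega
  obtain ⟨k, hk⟩ : n₂ ∣ n₁ := hy2 ▸ ha1 ▸ index_dvd_of_le hxy.le
  have hk' : n₁ = k * n₂ := hk.trans (mul_comm _ _)
  obtain ⟨q, hq, hkq⟩ := exists_pair_of_lt h hp hy hxy ha1 hy2 hk'
  have hpy : ∀ g : G, g ∉ center G → cp p (center G) < cp p (cent g) := fun g hg => by
    rcases h.cases hg with e | e
    · rw [part_const_of_eq p (e.trans hy2.symm)]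
      exact cp_center_lt hyz hy (center_le_cent y) (self_mem y)
    · rw [part_const_of_eq p (e.trans ha1.symm)]
      exact cp_center_lt hyz hy (center_le_cent a) (mem_cent_symm (hxy.le (self_mem a)))
  have key : ∀ r : ℕ, r.Prime → r ≠ p → r ≠ q → ∃ M : Subgroup (G ⧸ center G), M.Normal ∧
      ¬ r ∣ Nat.card M ∧ ∃ i, M.index = r ^ i := by
    intro r hr hrp hrq
    haveI := Fact.mk hr
    have hk0 : k ≠ 0 := by rintro rfl; omega
    have hn2 : n₂ ≠ 0 := by have := h.h2; omega
    have hfac : ∀ g : G, g ∉ center G → (cent g).index.factorization r = n₂.factorization r := by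
      intro g hg
      rcases h.cases hg with e | e <;> rw [e]
      rw [hk', Nat.factorization_mul hk0 hn2, Finsupp.add_apply,
        Nat.factorization_eq_zero_of_not_dvd (fun hd => (hkq r hr hd).elim hrp hrq), zero_add]
    by_cases hrn : r ∣ n₂
    · refine ConstHyp.exists_complement (r := r) ⟨fun u v hu hv =>
        cp_eq_of_index ((hfac u hu).trans (hfac v hv).symm), fun g hg => ?_, fun g hg => ?_, a, ha⟩
      · rw [hr.dvd_iff_one_le_factorization index_ne_zero_of_finite, hfac g hg,
          ← hr.dvd_iff_one_le_factorization hn2]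
        exact hrn
      · obtain ⟨v, hv, hvz, hvp⟩ := exists_noncentral (hpy g hg)
        exact ⟨v, hv, hvz, hvp.not_dvd hp hr (Ne.symm hrp)⟩
    · refine ⟨⊤, inferInstance, ?_, 0, by simp⟩
      rw [Subgroup.card_top, ← rElem_central_iff]
      intro w hw
      refine central_of_not_dvd (fun g hd => ?_) hw
      by_cases hg : g ∈ center G
      · rw [index_eq_one_iff.2 hg] at hd
        exact hr.not_dvd_one hd
      · rw [hr.dvd_iff_one_le_factorization index_ne_zero_of_finite, hfac g hg,
          ← hr.dvd_iff_one_le_factorization hn2] at hd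
        exact hrn hd
  refine isSolvable_of_quotient_center ?_
  have step : ∀ s : Finset ℕ, (∀ r ∈ s, r.Prime ∧ r ≠ p ∧ r ≠ q) → ∃ (M : Subgroup (G ⧸ center G)) (_ : M.Normal),
      Group.IsSolvable ((G ⧸ center G) ⧸ M) ∧ ∀ r ∈ s, ¬ r ∣ Nat.card M := by
    intro s
    induction s using Finset.induction_on with
    | empty =>
      intro _
      haveI : Subsingleton ((G ⧸ center G) ⧸ (⊤ : Subgroup (G ⧸ center G))) :=
        QuotientGroup.subsingleton_quotient_top
      exact ⟨⊤, inferInstance, inferInstance, by simp⟩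
    | insert r s _ ih =>
      intro hs
      obtain ⟨M, hM, hsol, hMs⟩ := ih fun t ht => hs t (Finset.mem_insert_of_mem ht)
      obtain ⟨hr, hrp, hrq⟩ := hs r (Finset.mem_insert_self r s)
      obtain ⟨M', hM', hM'r, i, hi⟩ := key r hr hrp hrq
      haveI := hM'
      haveI := hM
      haveI := hsol
      haveI := isSolvable_quotient_of_index M' hr hi
      refine ⟨M' ⊓ M, inferInstance, isSolvable_quotient_inf M' M, fun t ht hd => ?_⟩
      rcases Finset.mem_insert.1 ht with rfl | ht
      · exact hM'r (hd.trans (card_dvd_of_le inf_le_left))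
      · exact hMs t ht (hd.trans (card_dvd_of_le inf_le_right))
  obtain ⟨M, hM, hsol, hMs⟩ := step
    ((Nat.card (G ⧸ center G)).primeFactors.filter fun r => r ≠ p ∧ r ≠ q)
    fun r hr => ⟨Nat.prime_of_mem_primeFactors (Finset.mem_filter.1 hr).1, (Finset.mem_filter.1 hr).2⟩
  haveI := hM
  haveI := hsol
  haveI : Group.IsSolvable M := isSolvable_of_two_primes hp hq fun r hr hd => by
    by_contra hne
    push Not at hne
    exact hMs r (Finset.mem_filter.2 ⟨Nat.mem_primeFactors.2
      ⟨hr, hd.trans (card_subgroup_dvd_card M), Nat.card_pos.ne'⟩, hne⟩) hd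
  exact (Solvable.isSolvable_subgroup_quotient_iff M).2 ⟨inferInstance, inferInstance⟩

end Cfsg.Agent.ItoSizes
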